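import Groth.Agent.H13Chow.Proper

/-!
A proper space over an affine scheme is the closed surjective image of a scheme proper over it.
-/

set_option autoImplicit false
set_option backward.isDefEq.respectTransparency false
set_option linter.style.haveILetI false
universe u

open CategoryTheory CategoryTheory.Limits AlgebraicGeometry Opposite
open AlgSp Groth.Agent.H12AlgSp Groth.Agent.H13AlgSp Groth.Agent.H13AlgSp.BlowProper
open Groth.Agent.H12AlgSp.Shriek Groth.Agent.H13Chow

namespace Groth.Agent.H13Conn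

variable {S : Scheme.{u}}

/-- A space proper over an affine scheme is the surjective image of a scheme proper over it. -/
theorem exists_scheme_cover_proper {Z : Over S} [IsAffine Z.left] {P : Sp S} (hP : IsAlgSpace P)
    (π : P ⟶ (yon S).obj Z) (hπ : IsProperMor π) :
    ∃ (T : Over S) (m : (yon S).obj T ⟶ P) (k : T ⟶ Z), m ≫ π = (yon S).map k ∧ IsProper k.left ∧
      Function.Surjective (Points.map m) ∧ IsClosedMap (Points.map m) := by
  obtain ⟨hq, hb⟩ := fib_spec (g := Z.hom) (X := P) π
  let F := fib (g := Z.hom) (X := P) π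
  let q : (shr Z.hom).obj F ⟶ P := ((adj Z.hom).homEquiv F P).symm (fibι π)
  haveI : IsIso q := hq
  have hF : IsAlgSpace F := isAlgSpace_of_shr (g := Z.hom) (IsAlgSpace.of_iso hP (asIso q).symm)
  have ht : IsTerminal ((yon Z.left).obj (Over.mk (𝟙 Z.left))) :=
    IsTerminal.isTerminalObj (yon Z.left) _ Over.mkIdTerminal
  let p₀ := ht.from F
  haveI : IsIso (canS Z.hom (Over.mk (𝟙 Z.left))).left := inferInstanceAs (IsIso (𝟙 Z.left))
  haveI : IsIso (canS Z.hom (Over.mk (𝟙 Z.left))) := (Over.isoMk (asIso (canS Z.hom (Over.mk (𝟙 Z.left))).left)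
    (Over.w _)).isIso_hom
  let e := (yonIso Z.hom (Over.mk (𝟙 Z.left))).hom ≫ (yon S).map (canS Z.hom (Over.mk (𝟙 Z.left)))
  have he : (shr Z.hom).map p₀ ≫ e = q ≫ π :=
    ((congrArg ((shr Z.hom).map p₀ ≫ ·) (yonIso_toBase _)).trans (toBase_naturality Z.hom p₀)).trans hb.symm
  haveI : IsIso e := inferInstance
  haveI : MorphismProperty.ContainsIdentities (@IsSeparated : MorphismProperty Scheme.{u}) :=
    ⟨fun _ => inferInstance⟩
  have hsep₀ : IsSeparatedMor p₀ := by
    refine isSeparatedMor_of_shr Z.hom ?_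
    rw [(IsIso.eq_comp_inv e).2 he]
    exact isSeparatedMor_comp (isSeparatedMor_comp (isSeparatedMor_of_repWith (repWith_of_isIso q)) hπ.1)
      (isSeparatedMor_of_repWith (repWith_of_isIso _))
  have hqs : IsQuasiSeparatedSp F := Groth.Agent.H12AlgSp.isQuasiSeparatedSp_of_mor
    (isQuasiSeparatedMor_of_isSeparatedMor hsep₀) (isQuasiSeparatedSp_yon_of_isAffine (S := Z.left) ‹IsAffine Z.left›)
  haveI : CompactSpace Z.left := inferInstance
  have hPc : IsQuasiCompactSp P := Approx.isQuasiCompactSp_of_mor hπ.2.1.2 (IsAlgSpace.yon_obj Z) (isQuasiCompactSp_yon_iff.2 inferInstance)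
  have hqc : IsQuasiCompactSp F := by
    refine Approx.isQuasiCompactSp_of_shr' Z.hom ?_
    haveI : MorphismProperty.ContainsIdentities (@QuasiCompact : MorphismProperty Scheme.{u}) := ⟨fun _ => inferInstance⟩
    exact Approx.isQuasiCompactSp_of_mor (g := q) (isQuasiCompactMor_of_repWith (isAlgSpace_shr hF) hP (repWith_of_isIso q)) hP hPc
  haveI : QuasiSeparatedSpace Z.left := inferInstance
  obtain ⟨W, h, hh, -, hs, hWc⟩ := exists_scheme_finite_surjective hF hqc hqs
  let T := (Over.map Z.hom).obj W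
  let m : (yon S).obj T ⟶ P := (yonIso Z.hom W).inv ≫ (shr Z.hom).map h ≫ q
  have hm : RepWith @IsFinite m := MorphismProperty.RespectsIso.precomp _ _ _
    (MorphismProperty.RespectsIso.postcomp _ _ _ ((repWith_shr_iff Z.hom _ h).2 (isFiniteMor_iff.1 hh)))
  have hms : Function.Surjective (Points.map m) := surjective_map_of_repWith le_rfl
    (MorphismProperty.RespectsIso.precomp _ _ _ (MorphismProperty.RespectsIso.postcomp _ _ _
      ((repWith_shr_iff Z.hom _ h).2 (repWith_surjective_of_map (isFiniteMor_iff.1 hh).rep hs))))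
  obtain ⟨k, hk⟩ := (yon S).map_surjective (m ≫ π)
  haveI : CompactSpace T.left := hWc
  haveI : QuasiCompact k.left := inferInstance
  have hmp := ((isFiniteMor_iff_affine_proper (IsAlgSpace.yon_obj T) hP).1 (isFiniteMor_iff.2 hm)).2
  exact ⟨T, m, k, hk.symm, isProper_of_isProperMor_yon_map k
    (hk ▸ isProperMor_comp (IsAlgSpace.yon_obj T) hP (IsAlgSpace.yon_obj Z) hmp hπ), hms,
    isClosedMap_map_of_repWith (fun _ _ j (_ : IsFinite j) => inferInstanceAs (UniversallyClosed j)) hm⟩

end Groth.Agent.H13Conn
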