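import Groth.Agent.H12AlgSp.LocPCancel
import Mathlib

/-!
Closed embeddings of affine schemes of finite type into affine space, and finitely presented unions of
closed subschemes of affine schemes.
-/

set_option autoImplicit false
set_option backward.isDefEq.respectTransparency false
set_option linter.style.haveILetI false

universe u

open CategoryTheory CategoryTheory.Limits AlgebraicGeometry

namespace Groth.Agent.H13Conn

variable {U : Scheme.{u}}

/-- An affine scheme of finite type over an affine scheme embeds in affine space. -/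
theorem exists_closedImmersion_affineSpace [IsAffine U] (W : Over U) [IsAffine W.left]
    [LocallyOfFiniteType W.hom] :
    ∃ (n : Type u) (_ : Finite n) (ι : W ⟶ Over.mk (𝔸(n; U) ↘ U)), IsClosedImmersion ι.left := by
  classical
  have hft : W.hom.appTop.hom.FiniteType := (HasRingHomProperty.iff_of_isAffine (P := @LocallyOfFiniteType)).1 inferInstance
  letI := W.hom.appTop.hom.toAlgebra
  haveI : Algebra.FiniteType Γ(U, ⊤) Γ(W.left, ⊤) := hft
  obtain ⟨s, hs⟩ := (inferInstance : Algebra.FiniteType Γ(U, ⊤) Γ(W.left, ⊤)).out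
  let v : ↥s → Γ(W.left, ⊤) := fun x => x.1
  let ι : W ⟶ Over.mk (𝔸(↥s; U) ↘ U) :=
    Over.homMk (AffineSpace.homOfVector W.hom v) (AffineSpace.homOfVector_over W.hom v)
  haveI : IsAffine (Over.mk (𝔸(↥s; U) ↘ U)).left :=
    inferInstanceAs (IsAffine 𝔸(↥s; U))
  refine ⟨_, inferInstance, ι, IsClosedImmersion.of_surjective_of_isAffine _ fun x => ?_⟩
  have hx : x ∈ (Algebra.adjoin Γ(U, ⊤) (s : Set Γ(W.left, ⊤))) := hs ▸ Algebra.mem_top
  induction hx using Algebra.adjoin_induction with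
  | mem y hy => exact ⟨AffineSpace.coord U ⟨y, hy⟩, AffineSpace.homOfVector_appTop_coord W.hom v ⟨y, hy⟩⟩
  | algebraMap r =>
    refine ⟨(𝔸(↥s; U) ↘ U).appTop r, ?_⟩
    show ((𝔸(↥s; U) ↘ U).appTop ≫ ι.left.appTop) r = W.hom.appTop r
    rw [← Scheme.Hom.comp_appTop]
    exact congrArg (fun f : W.left ⟶ U => f.appTop r) (Over.w ι)
  | add a b _ _ ha hb =>
    obtain ⟨a', rfl⟩ := ha
    obtain ⟨b', rfl⟩ := hb
    exact ⟨a' + b', map_add _ _ _⟩
  | mul a b _ _ ha hb =>
    obtain ⟨a', rfl⟩ := ha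
    obtain ⟨b', rfl⟩ := hb
    exact ⟨a' * b', map_mul _ _ _⟩

variable {P : Scheme.{u}} [IsAffine P]

/-- A finitely presented closed subscheme of an affine scheme has finitely generated ideal. -/
theorem exists_fg_zeroLocus {T : Scheme.{u}} (i : T ⟶ P) [IsClosedImmersion i] [LocallyOfFinitePresentation i] :
    ∃ I : Ideal Γ(P, ⊤), I.FG ∧ Set.range (i ≫ P.isoSpec.hom) = PrimeSpectrum.zeroLocus (I : Set Γ(P, ⊤)) := by
  obtain ⟨hT, hs⟩ := IsClosedImmersion.isAffine_surjective_of_isAffine (f := i)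
  haveI := hT
  have hfp : i.appTop.hom.FinitePresentation :=
    (HasRingHomProperty.iff_of_isAffine (P := @LocallyOfFinitePresentation)).1 inferInstance
  letI := i.appTop.hom.toAlgebra
  haveI : Algebra.FinitePresentation Γ(P, ⊤) Γ(T, ⊤) := hfp
  refine ⟨RingHom.ker i.appTop.hom,
    Algebra.FinitePresentation.ker_fG_of_surjective (Algebra.ofId Γ(P, ⊤) Γ(T, ⊤)) hs, ?_⟩
  rw [← Scheme.isoSpec_hom_naturality, Scheme.Hom.comp_base, TopCat.coe_comp, Set.range_comp,
    Set.range_eq_univ.2 T.isoSpec.hom.surjective, Set.image_univ]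
  exact range_comap_of_surjective _ _ hs

/-- The union of three finitely presented closed subschemes of an affine scheme is the support of a
finitely presented one. -/
theorem exists_union {T₀ T₁ T₂ : Scheme.{u}} (i₀ : T₀ ⟶ P) [IsClosedImmersion i₀] [LocallyOfFinitePresentation i₀]
    (i₁ : T₁ ⟶ P) [IsClosedImmersion i₁] [LocallyOfFinitePresentation i₁]
    (i₂ : T₂ ⟶ P) [IsClosedImmersion i₂] [LocallyOfFinitePresentation i₂] :
    ∃ (K : Scheme.{u}) (j : K ⟶ P), IsClosedImmersion j ∧ LocallyOfFinitePresentation j ∧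
      Set.range j = Set.range i₀ ∪ Set.range i₁ ∪ Set.range i₂ := by
  obtain ⟨I₀, hI₀, h₀⟩ := exists_fg_zeroLocus i₀
  obtain ⟨I₁, hI₁, h₁⟩ := exists_fg_zeroLocus i₁
  obtain ⟨I₂, hI₂, h₂⟩ := exists_fg_zeroLocus i₂
  let m : Γ(P, ⊤) ⟶ CommRingCat.of (Γ(P, ⊤) ⧸ I₀ * I₁ * I₂) := CommRingCat.ofHom (Ideal.Quotient.mk _)
  haveI : IsClosedImmersion (Spec.map m) := IsClosedImmersion.spec_of_surjective _ Ideal.Quotient.mk_surjective
  have hfp : LocallyOfFinitePresentation (Spec.map m) := by
    rw [HasRingHomProperty.Spec_iff (P := @LocallyOfFinitePresentation)]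
    exact RingHom.FinitePresentation.of_surjective _ Ideal.Quotient.mk_surjective
      (by rw [CommRingCat.hom_ofHom, Ideal.mk_ker]; exact (hI₀.mul hI₁).mul hI₂)
  haveI := hfp
  refine ⟨_, Spec.map m ≫ P.isoSpec.inv, inferInstance, inferInstance, ?_⟩
  apply (Set.image_injective.2 P.isoSpec.hom.homeomorph.injective)
  have h : ∀ {T : Scheme.{u}} (f : T ⟶ P), P.isoSpec.hom '' Set.range f = Set.range (f ≫ P.isoSpec.hom) := fun f => by
    rw [Scheme.Hom.comp_base, TopCat.coe_comp, Set.range_comp]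
  show P.isoSpec.hom '' _ = P.isoSpec.hom '' _
  rw [Set.image_union, Set.image_union, h, h, h, h, h₀, h₁, h₂, Category.assoc, Iso.inv_hom_id, Category.comp_id,
    ← PrimeSpectrum.zeroLocus_mul, ← PrimeSpectrum.zeroLocus_mul]
  exact (range_comap_of_surjective _ _ Ideal.Quotient.mk_surjective).trans (by rw [Ideal.mk_ker])

end Groth.Agent.H13Conn
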