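import Groth.Agent.H13Conn.Topo
import Groth.Agent.H13Conn.Embed

/-!
A scheme whose fibres have the connected components of the quotient of a chart by a relation: the
double mapping cylinder of the two projections, realised inside affine space.
-/

set_option autoImplicit false
set_option backward.isDefEq.respectTransparency false
set_option linter.style.haveILetI false
set_option maxHeartbeats 1600000

universe u v

open CategoryTheory CategoryTheory.Limits AlgebraicGeometry Topology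

namespace Groth.Agent.H13Conn

variable {U : Scheme.{u}}

/-- The product over the base. -/
noncomputable abbrev pr (X Y : Over U) : Over U := Over.mk (pullback.fst X.hom Y.hom ≫ X.hom)

noncomputable abbrev pr₁ (X Y : Over U) : pr X Y ⟶ X := Over.homMk (pullback.fst X.hom Y.hom) rfl

noncomputable abbrev pr₂ (X Y : Over U) : pr X Y ⟶ Y :=
  Over.homMk (pullback.snd X.hom Y.hom) pullback.condition.symm

noncomputable abbrev pair {Z X Y : Over U} (f : Z ⟶ X) (g : Z ⟶ Y) : Z ⟶ pr X Y :=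
  Over.homMk (pullback.lift f.left g.left ((Over.w f).trans (Over.w g).symm))
    (by show pullback.lift _ _ _ ≫ pullback.fst _ _ ≫ X.hom = Z.hom; rw [pullback.lift_fst_assoc]; exact Over.w f)

@[reassoc (attr := simp)]
theorem pair_pr₁ {Z X Y : Over U} (f : Z ⟶ X) (g : Z ⟶ Y) : pair f g ≫ pr₁ X Y = f :=
  Over.OverMorphism.ext (pullback.lift_fst _ _ _)

@[reassoc (attr := simp)]
theorem pair_pr₂ {Z X Y : Over U} (f : Z ⟶ X) (g : Z ⟶ Y) : pair f g ≫ pr₂ X Y = g :=
  Over.OverMorphism.ext (pullback.lift_snd _ _ _)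

theorem pr_hom_ext {Z X Y : Over U} {a b : Z ⟶ pr X Y} (h₁ : a ≫ pr₁ X Y = b ≫ pr₁ X Y)
    (h₂ : a ≫ pr₂ X Y = b ≫ pr₂ X Y) : a = b :=
  Over.OverMorphism.ext (pullback.hom_ext (congrArg (fun f => Over.Hom.left f) h₁)
    (congrArg (fun f => Over.Hom.left f) h₂))

theorem isClosedImmersion_pmap {X X' Y Y' : Over U} (f : X ⟶ X') (g : Y ⟶ Y') (hf : IsClosedImmersion f.left)
    (hg : IsClosedImmersion g.left) : IsClosedImmersion (pair (pr₁ X Y ≫ f) (pr₂ X Y ≫ g)).left := by
  have h := MorphismProperty.pullbackMap (P := @IsClosedImmersion) (f := X.hom) (g := Y.hom) (f' := X'.hom)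
    (g' := Y'.hom) hf hg (Over.w f).symm (Over.w g).symm
  have e : (pair (pr₁ X Y ≫ f) (pr₂ X Y ≫ g)).left = pullback.map X.hom Y.hom X'.hom Y'.hom f.left g.left (𝟙 U)
      ((Category.comp_id _).trans (Over.w f).symm) ((Category.comp_id _).trans (Over.w g).symm) :=
    pullback.hom_ext ((pullback.lift_fst _ _ _).trans (pullback.lift_fst _ _ _).symm)
      ((pullback.lift_snd _ _ _).trans (pullback.lift_snd _ _ _).symm)
  rw [e]
  exact h

theorem isClosedImmersion_section {X Y : Over U} (σ : X ⟶ Y) (π : Y ⟶ X) (h : σ ≫ π = 𝟙 X)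
    (hπ : IsSeparated π.left) : IsClosedImmersion σ.left := by
  haveI : IsClosedImmersion (σ.left ≫ π.left) := by
    rw [← Over.comp_left, h]
    exact inferInstanceAs (IsClosedImmersion (𝟙 X.left))
  exact IsClosedImmersion.of_comp σ.left π.left

/-- Points with the same image under a geometrically irreducible morphism lie in the same component. -/
theorem mk_eq_of_geometricallyIrreducible {Z T : Scheme.{u}} (π : Z ⟶ T) [GeometricallyIrreducible π] {a b : Z}
    (h : π a = π b) : ConnectedComponents.mk a = ConnectedComponents.mk b := by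
  rw [ConnectedComponents.coe_eq_coe']
  obtain ⟨a', ha⟩ : a ∈ Set.range (π.fiberι (π b)) := (π.range_fiberι (π b)).ge h
  obtain ⟨b', hb⟩ : b ∈ Set.range (π.fiberι (π b)) := (π.range_fiberι (π b)).ge rfl
  have hc : _root_.IsPreconnected (Set.range (π.fiberι (π b))) :=
    isPreconnected_range (π.fiberι (π b)).continuous
  exact hc.subset_connectedComponent ⟨b', hb⟩ ⟨a', ha⟩

theorem apply_comp {Z : Scheme.{u}} (ξ : Z ⟶ U) {A B C : Over U} (f : A ⟶ B) (g : B ⟶ C)
    (x : ((Over.pullback ξ).obj A).left) :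
    ((Over.pullback ξ).map g).left (((Over.pullback ξ).map f).left x) = ((Over.pullback ξ).map (f ≫ g)).left x := by
  rw [Functor.map_comp, Over.comp_left, Scheme.Hom.comp_apply]

theorem exists_point_over {Z : Scheme.{u}} (ξ : Z ⟶ U) {A B C : Over U} (f : A ⟶ C) (g : B ⟶ C)
    (x : ((Over.pullback ξ).obj A).left) (y : ((Over.pullback ξ).obj B).left)
    (h : ((Over.pullback ξ).map f).left x = ((Over.pullback ξ).map g).left y) :
    ∃ (D : Scheme.{u}) (a : D ⟶ ((Over.pullback ξ).obj A).left) (b : D ⟶ ((Over.pullback ξ).obj B).left) (d : D),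
      a ≫ ((Over.pullback ξ).map f).left = b ≫ ((Over.pullback ξ).map g).left ∧ a d = x ∧ b d = y := by
  obtain ⟨d, hd₁, hd₂⟩ := Scheme.Pullback.exists_preimage_pullback x y h
  exact ⟨_, _, _, d, pullback.condition, hd₁, hd₂⟩

/-- The sections at two different constants of a line are disjoint. -/
theorem zero_ne_one_sections {D : Scheme.{u}} (p : D ⟶ U) (d : D)
    (h : p ≫ AffineSpace.homOfVector (𝟙 U) (fun _ : PUnit.{u + 1} => (0 : Γ(U, ⊤))) =
      p ≫ AffineSpace.homOfVector (𝟙 U) (fun _ : PUnit.{u + 1} => (1 : Γ(U, ⊤)))) : False := by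
  have h' := congrArg (fun f : D ⟶ 𝔸(PUnit.{u + 1}; U) => f.appTop (AffineSpace.coord U PUnit.unit)) h
  simp only [Scheme.Hom.comp_appTop, CommRingCat.hom_comp, RingHom.comp_apply,
    AffineSpace.homOfVector_appTop_coord, map_zero, map_one] at h'
  haveI : Subsingleton Γ(D, ⊤) := subsingleton_of_zero_eq_one h'
  exact (PrimeSpectrum.isEmpty_iff_subsingleton.2 inferInstance : IsEmpty (PrimeSpectrum Γ(D, ⊤))).false
    (D.toSpecΓ d)

/-- For a chart with a relation over an affine base, a finitely presented scheme whose fibres have as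
many connected components as the quotients of the fibres of the chart. -/
theorem exists_cylinder [IsAffine U] {W R : Over U} [IsAffine W.left] [LocallyOfFinitePresentation W.hom]
    [IsAffine R.left] [LocallyOfFinitePresentation R.hom] (s t : R ⟶ W) (hst : IsClosedImmersion (pair s t).left) :
    ∃ (K : Scheme.{u}) (k : K ⟶ U), IsAffine K ∧ LocallyOfFinitePresentation k ∧
      ∀ {Z : Scheme.{u}} (ξ : Z ⟶ U) (Tp : Type v) [TopologicalSpace Tp]
        (q : ((Over.pullback ξ).obj W).left → Tp), IsQuotientMap q →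
        (∀ r, q (((Over.pullback ξ).map s).left r) = q (((Over.pullback ξ).map t).left r)) →
        (∀ w w', q w = q w' → ∃ r, ((Over.pullback ξ).map s).left r = w ∧ ((Over.pullback ξ).map t).left r = w') →
        ENat.card (_root_.ConnectedComponents ↥(pullback k ξ)) = ENat.card (_root_.ConnectedComponents Tp) := by
  classical
  obtain ⟨n, _, ι, hι⟩ := exists_closedImmersion_affineSpace W
  let A : Over U := Over.mk (𝔸(n; U) ↘ U)
  let L : Over U := Over.mk (𝔸(PUnit.{u + 1}; U) ↘ U)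
  let T₀ := pr W A
  let T₁ := pr A W
  let T₂ := pr R L
  let P := pr (pr A A) L
  let c : ∀ (X : Over U), Γ(U, ⊤) → (X ⟶ L) := fun X a =>
    Over.homMk (X.hom ≫ AffineSpace.homOfVector (𝟙 U) (fun _ => a))
      (by show _ ≫ (𝔸(PUnit.{u + 1}; U) ↘ U) = X.hom; rw [Category.assoc, AffineSpace.homOfVector_over, Category.comp_id])
  have hc : ∀ {X Y : Over U} (f : X ⟶ Y) a, f ≫ c Y a = c X a := fun {X Y} f a => Over.OverMorphism.ext (by
    show f.left ≫ Y.hom ≫ _ = X.hom ≫ _
    rw [← Category.assoc, Over.w])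
  let i₀ : T₀ ⟶ P := pair (pair (pr₁ W A ≫ ι) (pr₂ W A)) (c T₀ 0)
  let i₁ : T₁ ⟶ P := pair (pair (pr₁ A W) (pr₂ A W ≫ ι)) (c T₁ 1)
  let i₂ : T₂ ⟶ P := pair (pr₁ R L ≫ pair (s ≫ ι) (t ≫ ι)) (pr₂ R L)
  haveI : IsAffine A.left := inferInstanceAs (IsAffine 𝔸(n; U))
  haveI : IsAffine L.left := inferInstanceAs (IsAffine 𝔸(PUnit.{u + 1}; U))
  haveI : IsAffine (pr A A).left := inferInstanceAs (IsAffine (pullback A.hom A.hom))
  haveI : IsAffine P.left := inferInstanceAs (IsAffine (pullback (pr A A).hom L.hom))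
  haveI : LocallyOfFinitePresentation A.hom := inferInstanceAs (LocallyOfFinitePresentation (𝔸(n; U) ↘ U))
  haveI : LocallyOfFinitePresentation L.hom :=
    inferInstanceAs (LocallyOfFinitePresentation (𝔸(PUnit.{u + 1}; U) ↘ U))
  have hfp : ∀ (X Y : Over U) [LocallyOfFinitePresentation X.hom] [LocallyOfFinitePresentation Y.hom],
      LocallyOfFinitePresentation (pr X Y).hom := fun X Y _ _ =>
    inferInstanceAs (LocallyOfFinitePresentation (pullback.fst X.hom Y.hom ≫ X.hom))
  haveI := hfp A A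
  haveI := hfp W A
  haveI := hfp A W
  haveI := hfp R L
  haveI : LocallyOfFinitePresentation P.hom := hfp (pr A A) L
  have hsec : ∀ a, IsClosedImmersion (pair (𝟙 (pr A A)) (c (pr A A) a)).left := fun a =>
    isClosedImmersion_section _ (pr₁ _ _) (pair_pr₁ _ _) inferInstance
  have hid : IsClosedImmersion (𝟙 A : A ⟶ A).left := inferInstanceAs (IsClosedImmersion (𝟙 A.left))
  haveI hi₀ : IsClosedImmersion i₀.left := by
    have e : i₀ = pair (pr₁ W A ≫ ι) (pr₂ W A ≫ 𝟙 A) ≫ pair (𝟙 (pr A A)) (c _ 0) := by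
      apply pr_hom_ext <;> simp [i₀, hc]
      exact (Category.comp_id _).symm
    haveI := isClosedImmersion_pmap ι (𝟙 A) hι hid
    haveI := hsec 0
    rw [e, Over.comp_left]
    infer_instance
  haveI hi₁ : IsClosedImmersion i₁.left := by
    have e : i₁ = pair (pr₁ A W ≫ 𝟙 A) (pr₂ A W ≫ ι) ≫ pair (𝟙 (pr A A)) (c _ 1) := by
      apply pr_hom_ext <;> simp [i₁, hc]
      exact (Category.comp_id _).symm
    haveI := isClosedImmersion_pmap (𝟙 A) ι hid hι
    haveI := hsec 1
    rw [e, Over.comp_left]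
    infer_instance
  haveI hi₂ : IsClosedImmersion i₂.left := by
    have e₁ : pair (s ≫ ι) (t ≫ ι) = pair s t ≫ pair (pr₁ W W ≫ ι) (pr₂ W W ≫ ι) := by
      apply pr_hom_ext <;> simp
    have hR : IsClosedImmersion (pair (s ≫ ι) (t ≫ ι)).left := by
      haveI := isClosedImmersion_pmap ι ι hι hι
      haveI := hst
      rw [e₁, Over.comp_left]
      infer_instance
    have h := isClosedImmersion_pmap (pair (s ≫ ι) (t ≫ ι)) (𝟙 L) hR (inferInstanceAs (IsClosedImmersion (𝟙 L.left)))
    rwa [Category.comp_id] at h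
  have hlfp : ∀ {X : Over U} [LocallyOfFinitePresentation X.hom] (i : X ⟶ P), LocallyOfFinitePresentation i.left :=
    fun {X} _ i => by
    haveI : LocallyOfFinitePresentation (i.left ≫ P.hom) := by rw [Over.w]; infer_instance
    exact Groth.Agent.H12AlgSp.lfp_of_comp i.left P.hom
  haveI := hlfp i₀
  haveI := hlfp i₁
  haveI := hlfp i₂
  obtain ⟨K, j, hj, hjfp, hrange⟩ := exists_union i₀.left i₁.left i₂.left
  haveI := hj
  haveI := hjfp
  refine ⟨K, j ≫ P.hom, isAffine_of_isAffineHom j, inferInstance, fun {Z} ξ Tp _ q hq hqst hqrel => ?_⟩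
  let F := Over.pullback ξ
  let jO : Over.mk (j ≫ P.hom) ⟶ P := Over.homMk j rfl
  haveI hjK : IsClosedImmersion (F.map jO).left := MorphismProperty.overPullbackMap ξ jO hj
  have hcl : ∀ {X : Over U} (i : X ⟶ P), IsClosedImmersion i.left → IsClosedEmbedding (F.map i).left := fun i hi =>
    haveI : IsClosedImmersion (F.map i).left := MorphismProperty.overPullbackMap ξ i hi
    (F.map i).left.isClosedEmbedding
  -- lifting the three pieces to the union
  have hK : ∀ (p : (F.obj P).left), pullback.fst P.hom ξ p ∈ Set.range j → ∃ a, (F.map jO).left a = p := by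
    rintro p ⟨b, hb⟩
    have sq : IsPullback (pullback.fst (j ≫ P.hom) ξ) (F.map jO).left j (pullback.fst P.hom ξ) := by
      refine IsPullback.of_bot ?_ ?_ (IsPullback.of_hasPullback P.hom ξ)
      · show IsPullback (pullback.fst (j ≫ P.hom) ξ) ((F.map jO).left ≫ pullback.snd P.hom ξ) (j ≫ P.hom) ξ
        rw [show (F.map jO).left ≫ pullback.snd P.hom ξ = pullback.snd (j ≫ P.hom) ξ from pullback.lift_snd _ _ _]
        exact IsPullback.of_hasPullback _ _
      · exact (pullback.lift_fst _ _ _).symm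
    obtain ⟨a, -, ha⟩ := Scheme.exists_preimage_of_isPullback sq b p hb
    exact ⟨a, ha⟩
  have hfst : ∀ {X : Over U} (i : X ⟶ P) (x : (F.obj X).left),
      pullback.fst P.hom ξ ((F.map i).left x) = i.left (pullback.fst X.hom ξ x) := fun {X} i x =>
    (Scheme.Hom.comp_apply _ _ _).symm.trans
      ((congrArg (fun f : (F.obj X).left ⟶ P.left => f x) (pullback.lift_fst _ _ _)).trans (Scheme.Hom.comp_apply _ _ _))
  have hpiece : ∀ {X : Over U} (i : X ⟶ P), Set.range i.left ⊆ Set.range j →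
      ∀ x : (F.obj X).left, ∃ a, (F.map jO).left a = (F.map i).left x := fun i hi x =>
    hK _ (hi ⟨_, (hfst i x).symm⟩)
  choose κ₀ hκ₀ using hpiece i₀ (by rw [hrange]; exact fun _ h => Or.inl (Or.inl h))
  choose κ₁ hκ₁ using hpiece i₁ (by rw [hrange]; exact fun _ h => Or.inl (Or.inr h))
  choose κ₂ hκ₂ using hpiece i₂ (by rw [hrange]; exact fun _ h => Or.inr h)
  have hjinj := (F.map jO).left.isClosedEmbedding.injective
  let T := (F.obj T₀).left ⊕ ((F.obj T₁).left ⊕ (F.obj T₂).left)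
  let κ : T → (F.obj (Over.mk (j ≫ P.hom))).left := Sum.elim κ₀ (Sum.elim κ₁ κ₂)
  let ρ : T → (F.obj P).left := Sum.elim (F.map i₀).left (Sum.elim (F.map i₁).left (F.map i₂).left)
  have hκρ : ∀ a, (F.map jO).left (κ a) = ρ a := by
    rintro (x | x | x)
    exacts [hκ₀ x, hκ₁ x, hκ₂ x]
  have hρ : IsClosedMap ρ :=
    IsClosedMap.sumElim (hcl i₀ hi₀).isClosedMap
      (IsClosedMap.sumElim (hcl i₁ hi₁).isClosedMap (hcl i₂ hi₂).isClosedMap)
  have hρc : Continuous ρ := (F.map i₀).left.continuous.sumElim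
    ((F.map i₁).left.continuous.sumElim (F.map i₂).left.continuous)
  have hκc : Continuous κ := (F.map jO).left.isClosedEmbedding.isInducing.continuous_iff.2 (by
    rw [show (F.map jO).left ∘ κ = ρ from funext hκρ]
    exact hρc)
  have hκcl : IsClosedMap κ := fun C hC => by
    rw [(F.map jO).left.isClosedEmbedding.isClosed_iff_image_isClosed, ← Set.image_comp,
      show (F.map jO).left ∘ κ = ρ from funext hκρ]
    exact hρ C hC
  have hκs : Function.Surjective κ := fun a => by
    let b := pullback.fst (j ≫ P.hom) ξ a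
    have hb : pullback.fst P.hom ξ ((F.map jO).left a) = j b := hfst jO a
    have hmem : j b ∈ Set.range i₀.left ∪ Set.range i₁.left ∪ Set.range i₂.left := hrange ▸ ⟨b, rfl⟩
    have lift : ∀ {X : Over U} (i : X ⟶ P), j b ∈ Set.range i.left → ∃ x, (F.map i).left x = (F.map jO).left a := by
      rintro X i ⟨x, hx⟩
      have sq : IsPullback (pullback.fst X.hom ξ) (F.map i).left i.left (pullback.fst P.hom ξ) := by
        refine IsPullback.of_bot ?_ ?_ (IsPullback.of_hasPullback P.hom ξ)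
        · show IsPullback (pullback.fst X.hom ξ) ((F.map i).left ≫ pullback.snd P.hom ξ) (i.left ≫ P.hom) ξ
          rw [show (F.map i).left ≫ pullback.snd P.hom ξ = pullback.snd X.hom ξ from pullback.lift_snd _ _ _, Over.w]
          exact IsPullback.of_hasPullback _ _
        · exact (pullback.lift_fst _ _ _).symm
      obtain ⟨z, -, hz⟩ := Scheme.exists_preimage_of_isPullback sq x _ (hx.trans hb.symm)
      exact ⟨z, hz⟩
    rcases hmem with (h | h) | h
    · obtain ⟨x, hx⟩ := lift i₀ h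
      exact ⟨Sum.inl x, hjinj ((hκρ _).trans hx)⟩
    · obtain ⟨x, hx⟩ := lift i₁ h
      exact ⟨Sum.inr (Sum.inl x), hjinj ((hκρ _).trans hx)⟩
    · obtain ⟨x, hx⟩ := lift i₂ h
      exact ⟨Sum.inr (Sum.inr x), hjinj ((hκρ _).trans hx)⟩
  have hκq : IsQuotientMap κ := hκcl.isQuotientMap hκc hκs
  -- the maps to the components of the quotient
  let g₀ : (F.obj T₀).left → _root_.ConnectedComponents Tp :=
    fun x => ConnectedComponents.mk (q ((F.map (pr₁ W A)).left x))
  let g₁ : (F.obj T₁).left → _root_.ConnectedComponents Tp :=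
    fun x => ConnectedComponents.mk (q ((F.map (pr₂ A W)).left x))
  let g₂ : (F.obj T₂).left → _root_.ConnectedComponents Tp :=
    fun x => ConnectedComponents.mk (q ((F.map (pr₁ R L ≫ s)).left x))
  let g : T → _root_.ConnectedComponents Tp := Sum.elim g₀ (Sum.elim g₁ g₂)
  have hgc : Continuous g := by
    have h : ∀ {X : Over U} (f : X ⟶ W), Continuous fun x => ConnectedComponents.mk (q ((F.map f).left x)) :=
      fun f => ConnectedComponents.continuous_coe.comp (hq.continuous.comp (F.map f).left.continuous)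
    exact (h _).sumElim ((h _).sumElim (h _))
  haveI hιF : IsClosedImmersion (F.map ι).left := MorphismProperty.overPullbackMap ξ ι hι
  have k₀ : i₀ ≫ pr₁ (pr A A) L ≫ pr₁ A A = pr₁ W A ≫ ι := by
    simp only [i₀, pair_pr₁_assoc, pair_pr₁]
  have k₁ : i₁ ≫ pr₁ (pr A A) L ≫ pr₂ A A = pr₂ A W ≫ ι := by
    simp only [i₁, pair_pr₁_assoc, pair_pr₂]
  have k₂ : i₂ ≫ pr₁ (pr A A) L ≫ pr₁ A A = pr₁ R L ≫ s ≫ ι := by
    simp only [i₂, pair_pr₁_assoc, pair_pr₁, Category.assoc]
  have k₂' : i₂ ≫ pr₁ (pr A A) L ≫ pr₂ A A = pr₁ R L ≫ t ≫ ι := by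
    simp only [i₂, pair_pr₁_assoc, pair_pr₂, Category.assoc]
  -- two points with the same image
  have h02 : ∀ x y, (F.map i₀).left x = (F.map i₂).left y → g₀ x = g₂ y := fun x y e => by
    refine congrArg (fun w => ConnectedComponents.mk (q w)) ((F.map ι).left.isClosedEmbedding.injective ?_)
    have e' := congrArg (F.map (pr₁ (pr A A) L ≫ pr₁ A A)).left e
    rw [apply_comp, apply_comp, k₀, k₂] at e'
    rw [apply_comp, apply_comp, Category.assoc]
    exact e'
  have h12 : ∀ x y, (F.map i₁).left x = (F.map i₂).left y → g₁ x = g₂ y := fun x y e => by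
    have e₂ : (F.map (pr₂ A W)).left x = (F.map (pr₁ R L ≫ t)).left y := by
      refine (F.map ι).left.isClosedEmbedding.injective ?_
      have e' := congrArg (F.map (pr₁ (pr A A) L ≫ pr₂ A A)).left e
      rw [apply_comp, apply_comp, k₁, k₂'] at e'
      rw [apply_comp, apply_comp, Category.assoc]
      exact e'
    show ConnectedComponents.mk (q _) = ConnectedComponents.mk (q _)
    rw [e₂, ← apply_comp, ← apply_comp ξ (pr₁ R L) s, hqst]
  have h01 : ∀ x y, (F.map i₀).left x ≠ (F.map i₁).left y := fun x y e => by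
    obtain ⟨D, a, b, d, hab, -, -⟩ := exists_point_over ξ i₀ i₁ x y e
    have e' := congrArg (fun f => f ≫ (F.map (pr₂ (pr A A) L)).left ≫ pullback.fst L.hom ξ) hab
    have l₀ : i₀ ≫ pr₂ (pr A A) L = c T₀ 0 := pair_pr₂ _ _
    have l₁ : i₁ ≫ pr₂ (pr A A) L = c T₁ 1 := pair_pr₂ _ _
    simp only [Category.assoc] at e'
    rw [← Over.comp_left_assoc, ← Over.comp_left_assoc, ← Functor.map_comp, ← Functor.map_comp, l₀, l₁] at e'
    have h₀ : (F.map (c T₀ 0)).left ≫ pullback.fst L.hom ξ = pullback.fst T₀.hom ξ ≫ (c T₀ 0).left :=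
      pullback.lift_fst _ _ _
    have h₁ : (F.map (c T₁ 1)).left ≫ pullback.fst L.hom ξ = pullback.fst T₁.hom ξ ≫ (c T₁ 1).left :=
      pullback.lift_fst _ _ _
    rw [h₀, h₁] at e'
    have hp : (a ≫ pullback.fst T₀.hom ξ) ≫ T₀.hom = (b ≫ pullback.fst T₁.hom ξ) ≫ T₁.hom := by
      have := congrArg (· ≫ (𝔸(PUnit.{u + 1}; U) ↘ U)) e'
      simpa [c] using this
    refine zero_ne_one_sections ((a ≫ pullback.fst T₀.hom ξ) ≫ T₀.hom) d ?_
    conv_rhs => rw [hp]
    simpa [c] using e'
  have hgκ : ∀ a b, κ a = κ b → g a = g b := fun a b e => by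
    have e' : ρ a = ρ b := by rw [← hκρ, ← hκρ, e]
    rcases a with x | x | x <;> rcases b with y | y | y <;> simp only [ρ, Sum.elim_inl, Sum.elim_inr] at e' ⊢
    · rw [(hcl i₀ hi₀).injective e']
    · exact (h01 _ _ e').elim
    · exact h02 _ _ e'
    · exact (h01 _ _ e'.symm).elim
    · rw [(hcl i₁ hi₁).injective e']
    · exact h12 _ _ e'
    · exact (h02 _ _ e'.symm).symm
    · exact (h12 _ _ e'.symm).symm
    · rw [(hcl i₂ hi₂).injective e']
  -- the sections
  let σ₀ : W ⟶ T₀ := pair (𝟙 W) ι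
  let σ₁ : W ⟶ T₁ := pair ι (𝟙 W)
  let τ₀ : R ⟶ T₀ := pair s (t ≫ ι)
  let τ₁ : R ⟶ T₁ := pair (s ≫ ι) t
  let ρ₀ : R ⟶ T₂ := pair (𝟙 R) (c R 0)
  let ρ₁ : R ⟶ T₂ := pair (𝟙 R) (c R 1)
  have hτ₀ : τ₀ ≫ i₀ = ρ₀ ≫ i₂ := by
    apply pr_hom_ext <;> simp [τ₀, ρ₀, i₀, i₂, hc]
    apply pr_hom_ext <;> simp
  have hτ₁ : τ₁ ≫ i₁ = ρ₁ ≫ i₂ := by
    apply pr_hom_ext <;> simp [τ₁, ρ₁, i₁, i₂, hc]
    apply pr_hom_ext <;> simp
  haveI : GeometricallyIrreducible (F.map (pr₁ W A)).left := MorphismProperty.overPullbackMap ξ (pr₁ W A)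
    (inferInstanceAs (GeometricallyIrreducible (pullback.fst W.hom (𝔸(n; U) ↘ U))))
  haveI : GeometricallyIrreducible (F.map (pr₂ A W)).left := MorphismProperty.overPullbackMap ξ (pr₂ A W)
    (inferInstanceAs (GeometricallyIrreducible (pullback.snd (𝔸(n; U) ↘ U) W.hom)))
  haveI : GeometricallyIrreducible (F.map (pr₁ R L)).left := MorphismProperty.overPullbackMap ξ (pr₁ R L)
    (inferInstanceAs (GeometricallyIrreducible (pullback.fst R.hom (𝔸(PUnit.{u + 1}; U) ↘ U))))
  let m : T → _root_.ConnectedComponents ↥(F.obj (Over.mk (j ≫ P.hom))).left := fun a => ConnectedComponents.mk (κ a)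
  have hpi : ∀ {X : Type u} [TopologicalSpace X] (f : X → T), Continuous f → ∀ a b : X,
      ConnectedComponents.mk a = ConnectedComponents.mk b → m (f a) = m (f b) := fun {X} _ f hf a b e => by
    have h : Continuous (m ∘ f) := ConnectedComponents.continuous_coe.comp (hκc.comp hf)
    have := congrArg h.connectedComponentsLift e
    rwa [Continuous.connectedComponentsLift_apply_coe, Continuous.connectedComponentsLift_apply_coe] at this
  have hsame₀ : ∀ x y, (F.map (pr₁ W A)).left x = (F.map (pr₁ W A)).left y → m (Sum.inl x) = m (Sum.inl y) :=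
    fun x y e => hpi _ continuous_inl x y (mk_eq_of_geometricallyIrreducible _ e)
  have hsame₁ : ∀ x y, (F.map (pr₂ A W)).left x = (F.map (pr₂ A W)).left y →
      m (Sum.inr (Sum.inl x)) = m (Sum.inr (Sum.inl y)) :=
    fun x y e => hpi _ (continuous_inr.comp continuous_inl) x y (mk_eq_of_geometricallyIrreducible _ e)
  have hsame₂ : ∀ x y, (F.map (pr₁ R L)).left x = (F.map (pr₁ R L)).left y →
      m (Sum.inr (Sum.inr x)) = m (Sum.inr (Sum.inr y)) :=
    fun x y e => hpi _ (continuous_inr.comp continuous_inr) x y (mk_eq_of_geometricallyIrreducible _ e)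
  have hid' : ∀ {X : Over U} (x : (F.obj X).left), (F.map (𝟙 X)).left x = x := fun x => by
    rw [CategoryTheory.Functor.map_id]
    rfl
  let m₀ : (F.obj W).left → _root_.ConnectedComponents ↥(F.obj (Over.mk (j ≫ P.hom))).left := fun w =>
    m (Sum.inl ((F.map σ₀).left w))
  let m₁ : (F.obj W).left → _root_.ConnectedComponents ↥(F.obj (Over.mk (j ≫ P.hom))).left := fun w =>
    m (Sum.inr (Sum.inl ((F.map σ₁).left w)))
  have hr₀ : ∀ r, m₀ ((F.map s).left r) = m (Sum.inr (Sum.inr ((F.map ρ₀).left r))) := fun r => by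
    refine (hsame₀ _ ((F.map τ₀).left r) ?_).trans (congrArg ConnectedComponents.mk (hjinj ?_))
    · rw [apply_comp, apply_comp, apply_comp]
      simp [σ₀, τ₀]
    · rw [hκρ, hκρ]
      show (F.map i₀).left _ = (F.map i₂).left _
      rw [apply_comp, apply_comp, hτ₀]
  have hr₁ : ∀ r, m₁ ((F.map t).left r) = m (Sum.inr (Sum.inr ((F.map ρ₁).left r))) := fun r => by
    refine (hsame₁ _ ((F.map τ₁).left r) ?_).trans (congrArg ConnectedComponents.mk (hjinj ?_))
    · rw [apply_comp, apply_comp, apply_comp]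
      simp [σ₁, τ₁]
    · rw [hκρ, hκρ]
      show (F.map i₁).left _ = (F.map i₂).left _
      rw [apply_comp, apply_comp, hτ₁]
  have hr : ∀ r, m₀ ((F.map s).left r) = m₁ ((F.map t).left r) := fun r => by
    rw [hr₀, hr₁]
    refine hsame₂ _ _ ?_
    rw [apply_comp, apply_comp]
    simp [ρ₀, ρ₁]
  have hdiag : ∀ w, m₀ w = m₁ w := fun w => by
    obtain ⟨r, h₁, h₂⟩ := hqrel w w rfl
    conv_lhs => rw [← h₁]
    rw [hr, h₂]
  have hσ₀ : ∀ w, (F.map (pr₁ W A)).left ((F.map σ₀).left w) = w := fun w => by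
    rw [apply_comp, show σ₀ ≫ pr₁ W A = 𝟙 W from pair_pr₁ _ _, hid']
  have hσ₁ : ∀ w, (F.map (pr₂ A W)).left ((F.map σ₁).left w) = w := fun w => by
    rw [apply_comp, show σ₁ ≫ pr₂ A W = 𝟙 W from pair_pr₂ _ _, hid']
  have hρ₀ : ∀ r, (F.map (pr₁ R L)).left ((F.map ρ₀).left r) = r := fun r => by
    rw [apply_comp, show ρ₀ ≫ pr₁ R L = 𝟙 R from pair_pr₁ _ _, hid']
  refine card_connectedComponents_eq κ hκq g hgc hgκ q hq (fun w => Sum.inl ((F.map σ₀).left w))
    (continuous_inl.comp (F.map σ₀).left.continuous) (fun w => ?_) (fun w w' e => ?_) ?_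
  · show ConnectedComponents.mk (q _) = _
    rw [hσ₀]
  · obtain ⟨r, h₁, h₂⟩ := hqrel w w' e
    show m₀ w = m₀ w'
    rw [← h₁, hr, h₂, hdiag]
  · rintro (x | x | x)
    · exact ⟨(F.map (pr₁ W A)).left x, hsame₀ _ _ (hσ₀ _).symm⟩
    · exact ⟨(F.map (pr₂ A W)).left x, (hsame₁ _ _ (hσ₁ _).symm).trans (hdiag _).symm⟩
    · exact ⟨(F.map s).left ((F.map (pr₁ R L)).left x), (hsame₂ _ _ (hρ₀ _).symm).trans (hr₀ _).symm⟩

end Groth.Agent.H13Conn
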