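import Groth.Agent.H13Conn.Cylinder
import Groth.Agent.S1339
import Groth.Agent.H7Flat.GeomInt.Counts
import Groth.Agent.H13Chow.SchemeCover
import Groth.Agent.H12AlgSp.FinPres

/-!
The number of connected components of the geometric fibres of a separated space of finite presentation
over an affine scheme is that of a scheme of finite presentation.
-/

set_option autoImplicit false
set_option backward.isDefEq.respectTransparency false
set_option linter.style.haveILetI false
set_option maxHeartbeats 1600000

universe u

open CategoryTheory CategoryTheory.Limits AlgebraicGeometry Topology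
open AlgSp Groth.Agent.H12AlgSp Groth.Agent.H13AlgSp

namespace Groth.Agent.H13Conn

variable {S : Scheme.{u}}

/-- The geometric component count of a separated finitely presented space over an affine scheme is
computed by an affine scheme of finite presentation. -/
theorem exists_scheme_card_eq {X : Sp S} {U₀ : Over S} [IsAffine U₀.left] (hX : IsAlgSpace X)
    (g : X ⟶ (yon S).obj U₀) (hg1 : IsSeparatedMor g) (hg2 : IsFinitePresentationMor g) :
    ∃ (K : Scheme.{u}) (k : K ⟶ U₀.left), IsAffine K ∧ LocallyOfFinitePresentation k ∧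
      ∀ (Z : Over S) (a : Z ⟶ U₀), ENat.card (_root_.ConnectedComponents ↥(pullback k a.left)) =
        ENat.card (_root_.ConnectedComponents (Points (pullback g ((yon S).map a)))) := by
  classical
  have hU₀ : IsAlgSpace ((yon S).obj U₀) := IsAlgSpace.yon_obj _
  haveI : CompactSpace (Points X) := compactSpace_points_of_isQuasiCompactSp
    (Approx.isQuasiCompactSp_of_mor hg2.2.1 hU₀ (isQuasiCompactSp_yon_iff.2 inferInstance))
  obtain ⟨W, p, hW, hp, hps⟩ := exists_affine_atlas hX
  haveI := hW
  obtain ⟨q, hq⟩ := (yon S).map_surjective (p ≫ g)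
  haveI : LocallyOfFinitePresentation q.left := locP_yon_map (hq ▸ Groth.Agent.H12AlgSp.locP_comp etLocal_lfp
    (IsAlgSpace.yon_obj W) hX hU₀ (locP_of_repWith etLocal_lfp (repWith_le (fun _ _ f (_ : Etale f) => inferInstanceAs (LocallyOfFinitePresentation f)) hp))
    hg2.1)
  obtain ⟨R, t, s', sqR⟩ := hp.rep p
  obtain ⟨s, rfl⟩ := (yon S).map_surjective s'
  haveI : Etale t.left := hp.property _ _ t sqR
  let W' : Over U₀.left := Over.mk q.left
  let R' : Over U₀.left := Over.mk (t.left ≫ q.left)
  have hst' : s ≫ q = t ≫ q := (yon S).map_injective (by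
    rw [Functor.map_comp, Functor.map_comp, hq, ← Category.assoc, sqR.w, Category.assoc])
  have hw : s.left ≫ q.left = t.left ≫ q.left := congrArg (fun f => Over.Hom.left f) hst'
  let sU : R' ⟶ W' := Over.homMk s.left hw
  let tU : R' ⟶ W' := Over.homMk t.left rfl
  -- the relation is closed in the product
  have hcl : IsClosedImmersion (pullback.lift s.left t.left hw) := by
    let PW : Over S := Over.mk (pullback.fst q.left q.left ≫ W.hom)
    let a : PW ⟶ W := Over.homMk (pullback.fst q.left q.left) rfl
    let b : PW ⟶ W := Over.homMk (pullback.snd q.left q.left) (by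
      show pullback.snd q.left q.left ≫ W.hom = pullback.fst q.left q.left ≫ W.hom
      rw [← Over.w q, pullback.condition_assoc])
    have hab : a ≫ q = b ≫ q := Over.OverMorphism.ext pullback.condition
    let m : (yon S).obj PW ⟶ pullback g g := pullback.lift ((yon S).map a ≫ p) ((yon S).map b ≫ p) (by
      rw [Category.assoc, Category.assoc, ← hq, ← Functor.map_comp, ← Functor.map_comp, hab])
    obtain ⟨E, e, c, sqE⟩ := (show RepWith @IsClosedImmersion (pullback.diagonal g) from hg1).rep m
    haveI : IsClosedImmersion e.left := (show RepWith @IsClosedImmersion (pullback.diagonal g) from hg1).property m c e sqE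
    let r : R ⟶ PW := Over.homMk (pullback.lift s.left t.left hw) (by
      show pullback.lift _ _ _ ≫ pullback.fst _ _ ≫ W.hom = R.hom
      rw [pullback.lift_fst_assoc]
      exact Over.w s)
    have hra : r ≫ a = s := Over.OverMorphism.ext (pullback.lift_fst _ _ _)
    have hrb : r ≫ b = t := Over.OverMorphism.ext (pullback.lift_snd _ _ _)
    obtain ⟨l', hl₁, hl₂⟩ := sqE.exists_lift ((yon S).map s ≫ p) ((yon S).map r) (by
      apply pullback.hom_ext
      · simp only [m, Category.assoc, pullback.diagonal_fst, pullback.lift_fst, Category.comp_id]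
        rw [← Functor.map_comp_assoc, hra]
      · simp only [m, Category.assoc, pullback.diagonal_snd, pullback.lift_snd, Category.comp_id]
        rw [← Functor.map_comp_assoc, hrb, sqR.w])
    obtain ⟨l, rfl⟩ := (yon S).map_surjective l'
    have hE₁ : c = (yon S).map (e ≫ a) ≫ p := by
      have := congrArg (· ≫ pullback.fst g g) sqE.w
      simpa [m] using this
    have hE₂ : c = (yon S).map (e ≫ b) ≫ p := by
      have := congrArg (· ≫ pullback.snd g g) sqE.w
      simpa [m] using this
    obtain ⟨k', hk₁, hk₂⟩ := sqR.exists_lift ((yon S).map (e ≫ a)) ((yon S).map (e ≫ b)) (hE₁.symm.trans hE₂)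
    obtain ⟨k, rfl⟩ := (yon S).map_surjective k'
    rw [← Functor.map_comp] at hk₁ hk₂ hl₂
    have hle : l ≫ e = r := (yon S).map_injective hl₂
    have hlk : l ≫ k = 𝟙 R := (yon S).map_injective (sqR.hom_ext
      (by rw [← Functor.map_comp, CategoryTheory.Functor.map_id, Category.id_comp, Category.assoc,
        (yon S).map_injective hk₁, reassoc_of% hle, hra])
      (by rw [← Functor.map_comp, CategoryTheory.Functor.map_id, Category.id_comp, Category.assoc,
        (yon S).map_injective hk₂, reassoc_of% hle, hrb]))
    have hkr : k ≫ r = e := Over.OverMorphism.ext (pullback.hom_ext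
      (congrArg (fun f => Over.Hom.left f) (show (k ≫ r) ≫ a = e ≫ a by
        rw [Category.assoc, hra]; exact (yon S).map_injective hk₁))
      (congrArg (fun f => Over.Hom.left f) (show (k ≫ r) ≫ b = e ≫ b by
        rw [Category.assoc, hrb]; exact (yon S).map_injective hk₂)))
    haveI : Mono e := by
      haveI : Mono ((Over.forget S).map e) := inferInstanceAs (Mono e.left)
      exact (Over.forget S).mono_of_mono_map this
    have hkl : k ≫ l = 𝟙 E := by rw [← cancel_mono e, Category.assoc, hle, hkr, Category.id_comp]
    haveI : IsIso l := ⟨k, hlk, hkl⟩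
    haveI : IsIso l.left := inferInstanceAs (IsIso ((Over.forget S).map l))
    show IsClosedImmersion r.left
    rw [← hle, Over.comp_left]
    infer_instance
  haveI : IsAffine W'.left := hW
  haveI : IsAffine R'.left := by
    haveI := hcl
    exact isAffine_of_isAffineHom (pullback.lift s.left t.left hw)
  haveI : LocallyOfFinitePresentation W'.hom := ‹LocallyOfFinitePresentation q.left›
  haveI : LocallyOfFinitePresentation R'.hom := inferInstanceAs (LocallyOfFinitePresentation (t.left ≫ q.left))
  have hstU : IsClosedImmersion (pair sU tU).left := hcl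
  obtain ⟨K, k, hK, hkfp, hcard⟩ := exists_cylinder sU tU hstU
  refine ⟨K, k, hK, hkfp, fun Z a => ?_⟩
  let WZ : Over S := Over.mk (pullback.fst q.left a.left ≫ W.hom)
  let w₁ : WZ ⟶ W := Over.homMk (pullback.fst q.left a.left) rfl
  let w₂ : WZ ⟶ Z := Over.homMk (pullback.snd q.left a.left) (by
    show pullback.snd q.left a.left ≫ Z.hom = pullback.fst q.left a.left ≫ W.hom
    rw [← Over.w a, ← Over.w q, pullback.condition_assoc])
  have sqW : IsPullback w₁ w₂ q a :=
    IsPullback.of_map (Over.forget S) (Over.OverMorphism.ext pullback.condition) (IsPullback.of_hasPullback q.left a.left)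
  have sqW' := sqW.map (yon S)
  rw [hq] at sqW'
  let h : (yon S).obj WZ ⟶ pullback g ((yon S).map a) :=
    pullback.lift ((yon S).map w₁ ≫ p) ((yon S).map w₂) (by rw [Category.assoc]; exact sqW'.w)
  have sqh : IsPullback ((yon S).map w₁) h p (pullback.fst g ((yon S).map a)) :=
    IsPullback.of_bot (by rw [pullback.lift_snd]; exact sqW') (pullback.lift_fst _ _ _).symm
      (IsPullback.of_hasPullback _ _)
  have hhe : RepWith @Etale h := repWith_of_isPullback sqh hp
  have hhs : RepWith @Surjective h := repWith_of_isPullback sqh hps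
  let RZ : Over S := Over.mk (pullback.fst (t.left ≫ q.left) a.left ≫ R.hom)
  let sZ : RZ ⟶ WZ := Over.homMk ((Over.pullback a.left).map sU).left (by
    show pullback.lift _ _ _ ≫ pullback.fst _ _ ≫ W.hom = _
    rw [pullback.lift_fst_assoc]
    exact (Category.assoc _ _ _).trans (congrArg (_ ≫ ·) (Over.w s)))
  let tZ : RZ ⟶ WZ := Over.homMk ((Over.pullback a.left).map tU).left (by
    show pullback.lift _ _ _ ≫ pullback.fst _ _ ≫ W.hom = _
    rw [pullback.lift_fst_assoc]
    exact (Category.assoc _ _ _).trans (congrArg (_ ≫ ·) (Over.w t)))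
  let r₁ : RZ ⟶ R := Over.homMk (pullback.fst (t.left ≫ q.left) a.left) rfl
  have hs₁ : sZ ≫ w₁ = r₁ ≫ s := Over.OverMorphism.ext (pullback.lift_fst _ _ _)
  have ht₁ : tZ ≫ w₁ = r₁ ≫ t := Over.OverMorphism.ext (pullback.lift_fst _ _ _)
  have hs₂ : sZ ≫ w₂ = tZ ≫ w₂ :=
    Over.OverMorphism.ext ((pullback.lift_snd _ _ _).trans (pullback.lift_snd _ _ _).symm)
  have hsth : (yon S).map sZ ≫ h = (yon S).map tZ ≫ h := by
    apply pullback.hom_ext
    · simp only [h, Category.assoc, pullback.lift_fst]
      rw [← Functor.map_comp_assoc, ← Functor.map_comp_assoc, hs₁, ht₁, Functor.map_comp_assoc, Functor.map_comp_assoc,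
        sqR.w]
    · simp only [h, Category.assoc, pullback.lift_snd]
      rw [← Functor.map_comp, ← Functor.map_comp, hs₂]
  refine hcard a.left (Points (pullback g ((yon S).map a))) (Points.ofPt h) (isQuotientMap_ofPt hhe hhs) (fun r => ?_)
    (fun w w' e => ?_)
  · show Points.ofPt h (sZ.left r) = Points.ofPt h (tZ.left r)
    rw [← ofPt_map, ← ofPt_map, hsth]
  · obtain ⟨Q, b', a'', sqQ⟩ := hhe.rep h
    obtain ⟨a', rfl⟩ := (yon S).map_surjective a''
    obtain ⟨z, hz₁, hz₂⟩ := exists_point_of_isPullback sqQ (Points.ofScheme WZ w) (Points.ofScheme WZ w')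
      (by rw [← Points.ofPt_eq_map_ofScheme, ← Points.ofPt_eq_map_ofScheme]; exact e)
    obtain ⟨z, rfl⟩ := (Points.schemeEquiv Q).surjective z
    change Points.map _ (Points.ofScheme Q z) = _ at hz₁ hz₂
    have hw₁ : a'.left z = w :=
      (Points.schemeEquiv WZ).injective ((Points.map_yon_map_apply a' z).symm.trans hz₁)
    have hw₂ : b'.left z = w' :=
      (Points.schemeEquiv WZ).injective ((Points.map_yon_map_apply b' z).symm.trans hz₂)
    obtain ⟨c', hc₁, hc₂⟩ := sqR.exists_lift ((yon S).map (a' ≫ w₁)) ((yon S).map (b' ≫ w₁)) (by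
      have := congrArg (· ≫ pullback.fst g ((yon S).map a)) sqQ.w
      simpa [h] using this)
    obtain ⟨c, rfl⟩ := (yon S).map_surjective c'
    rw [← Functor.map_comp] at hc₁ hc₂
    have hab : a' ≫ w₂ = b' ≫ w₂ := (yon S).map_injective (by
      have := congrArg (· ≫ pullback.snd g ((yon S).map a)) sqQ.w
      simpa [h] using this)
    let l : Q.left ⟶ RZ.left := pullback.lift c.left (b' ≫ w₂).left (by
      rw [← Category.assoc, show c.left ≫ t.left = (b' ≫ w₁).left from
        congrArg (fun f => Over.Hom.left f) ((yon S).map_injective hc₂)]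
      show (b'.left ≫ w₁.left) ≫ q.left = (b'.left ≫ w₂.left) ≫ a.left
      rw [Category.assoc, Category.assoc]
      exact congrArg (b'.left ≫ ·) pullback.condition)
    refine ⟨l z, ?_, ?_⟩
    · rw [← hw₁]
      show (l ≫ sZ.left) z = a'.left z
      refine congrArg (fun f : Q.left ⟶ WZ.left => f z) (pullback.hom_ext ?_ ?_)
      · refine (Category.assoc _ _ _).trans ((congrArg (l ≫ ·) (pullback.lift_fst _ _ _)).trans ?_)
        exact (Category.assoc _ _ _).symm.trans ((congrArg (· ≫ s.left) (pullback.lift_fst _ _ _)).trans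
          (congrArg (fun f => Over.Hom.left f) ((yon S).map_injective hc₁)))
      · refine (Category.assoc _ _ _).trans ((congrArg (l ≫ ·) (pullback.lift_snd _ _ _)).trans ?_)
        exact (pullback.lift_snd _ _ _).trans (congrArg (fun f => Over.Hom.left f) hab.symm)
    · rw [← hw₂]
      show (l ≫ tZ.left) z = b'.left z
      refine congrArg (fun f : Q.left ⟶ WZ.left => f z) (pullback.hom_ext ?_ ?_)
      · refine (Category.assoc _ _ _).trans ((congrArg (l ≫ ·) (pullback.lift_fst _ _ _)).trans ?_)
        exact (Category.assoc _ _ _).symm.trans ((congrArg (· ≫ t.left) (pullback.lift_fst _ _ _)).trans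
          (congrArg (fun f => Over.Hom.left f) ((yon S).map_injective hc₂)))
      · refine (Category.assoc _ _ _).trans ((congrArg (l ≫ ·) (pullback.lift_snd _ _ _)).trans ?_)
        exact pullback.lift_snd _ _ _

end Groth.Agent.H13Conn
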