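import Groth.Agent.H12Pic.PicCurve.ValUnits
import Mathlib

/-!
Over a valuation ring, open and closed pieces of the generic fibre of a flat algebra of finite type have
closures meeting no reduced point of the special fibre.
-/

set_option autoImplicit false
set_option linter.style.haveILetI false
set_option backward.isDefEq.respectTransparency false

universe u

open scoped nonZeroDivisors
open Topology IsLocalRing

namespace Groth.Agent.H13Conn

variable {V B : Type u} [CommRing V] [IsDomain V] [ValuationRing V] [CommRing B] [Algebra V B]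
  [Module.Flat V B] [Algebra.FiniteType V B]

/-- An element of a flat algebra with `b * b = v * b` is, near a reduced point of the special fibre,
either zero or `v`. -/
theorem exists_zero_or_eq {v : V} (hv : v ≠ 0) {b : B} (hb : b * b = algebraMap V B v * b) (q : Ideal B) [q.IsPrime]
    (hq : q.comap (algebraMap V B) = maximalIdeal V)
    (hred : IsReduced (B ⧸ (maximalIdeal V).map (algebraMap V B))) :
    ∃ f, f ∉ q ∧ (f * b = 0 ∨ f * b = f * algebraMap V B v) := by
  classical
  let A := Localization.AtPrime q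
  haveI : Algebra.EssFiniteType B A := Algebra.EssFiniteType.of_isLocalization A q.primeCompl
  haveI : Algebra.EssFiniteType V A := Algebra.EssFiniteType.comp V B A
  haveI : Module.Flat V A := Module.Flat.trans V B A
  haveI : IsLocalHom (algebraMap V A) := ⟨fun x hx => by
    by_contra h
    have hm : algebraMap V B x ∈ q := (show x ∈ q.comap (algebraMap V B) from hq ▸ h)
    rw [IsScalarTower.algebraMap_apply V B A, IsLocalization.AtPrime.isUnit_to_map_iff A q] at hx
    exact hx hm⟩
  let φ := algebraMap B A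
  by_cases h0 : φ b = 0
  · obtain ⟨⟨f, hf⟩, h⟩ := (IsLocalization.map_eq_zero_iff q.primeCompl A b).1 h0
    exact ⟨f, hf, Or.inl h⟩
  obtain ⟨c, a₀, hca, hc, ha₀⟩ := H12Pic.PicCurve.ValUnits.exists_content (V := V) A (φ b) h0
  have hreg : ∀ {x : V}, x ≠ 0 → IsSMulRegular A x := fun hx =>
    Module.Flat.isSMulRegular_of_nonZeroDivisors (mem_nonZeroDivisors_of_ne_zero hx)
  have cancel : ∀ {x : V}, x ≠ 0 → ∀ y z : A, algebraMap V A x * y = algebraMap V A x * z → y = z :=
    fun hx y z e => hreg hx (by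
      show _ • y = _ • z
      rw [Algebra.smul_def, Algebra.smul_def]
      exact e)
  have hb' : φ b * φ b = algebraMap V A v * φ b := by
    rw [← map_mul, hb, map_mul, ← IsScalarTower.algebraMap_apply]
  have hlift : ∀ x : A, x * x ∈ (maximalIdeal V).map (algebraMap V A) →
      x ∈ (maximalIdeal V).map (algebraMap V A) := by
    intro x hx
    rw [IsScalarTower.algebraMap_eq V B A, ← Ideal.map_map] at hx ⊢
    obtain ⟨⟨β, f⟩, hβ⟩ := IsLocalization.surj q.primeCompl x
    have hββ : algebraMap B A (β * β) ∈ ((maximalIdeal V).map (algebraMap V B)).map (algebraMap B A) := by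
      rw [map_mul, ← hβ]
      exact Ideal.mul_mem_left _ _ hx |> fun h => by
        simpa [mul_assoc, mul_comm, mul_left_comm] using h
    obtain ⟨g, hg, hgm⟩ := (IsLocalization.algebraMap_mem_map_algebraMap_iff q.primeCompl A _ _).1 hββ
    have : g * β ∈ (maximalIdeal V).map (algebraMap V B) := by
      rw [← Ideal.Quotient.eq_zero_iff_mem]
      refine hred.eq_zero _ ⟨2, ?_⟩
      rw [← map_pow, Ideal.Quotient.eq_zero_iff_mem, show (g * β) ^ 2 = g * (g * (β * β)) by ring]
      exact Ideal.mul_mem_left _ _ hgm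
    have h := Ideal.mem_map_of_mem (algebraMap B A) this
    rw [map_mul, ← hβ] at h
    obtain ⟨u, hu⟩ := IsLocalization.map_units A ⟨g, hg⟩
    obtain ⟨u', hu'⟩ := IsLocalization.map_units A f
    rw [← hu] at h
    rw [show ((algebraMap B A) f : A) = u' from hu'.symm] at h
    simpa [← mul_assoc, mul_comm x, Ideal.unit_mul_mem_iff_mem, Units.isUnit] using h
  obtain ⟨e, he, hbe⟩ : ∃ e : A, e * e = e ∧ φ b = algebraMap V A v * e := by
    rcases ValuationRing.dvd_total v c with ⟨t, rfl⟩ | ⟨t, rfl⟩
    · refine ⟨algebraMap V A t * a₀, ?_, by rw [hca, map_mul, mul_assoc]⟩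
      refine cancel hv _ _ (cancel hv _ _ ?_)
      rw [hca, map_mul] at hb'
      linear_combination hb'
    · have hc' : c ≠ 0 := hc
      have h1 : a₀ * a₀ = algebraMap V A t * a₀ := by
        refine cancel hc' _ _ (cancel hc' _ _ ?_)
        rw [hca, map_mul] at hb'
        linear_combination hb'
      have ht : IsUnit t := by
        by_contra hnt
        exact ha₀ (hlift a₀ (h1 ▸ Ideal.mul_mem_right _ _
          (Ideal.mem_map_of_mem _ ((mem_maximalIdeal t).2 hnt))))
      obtain ⟨t, rfl⟩ := ht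
      refine ⟨algebraMap V A (t⁻¹ : Vˣ) * a₀, ?_, ?_⟩
      · have h2 : algebraMap V A (t⁻¹ : Vˣ) * algebraMap V A t = 1 := by rw [← map_mul, Units.inv_mul, map_one]
        linear_combination (algebraMap V A (t⁻¹ : Vˣ) * algebraMap V A (t⁻¹ : Vˣ)) * h1 +
          algebraMap V A (t⁻¹ : Vˣ) * a₀ * h2
      · rw [hca, map_mul, mul_assoc, ← mul_assoc (algebraMap V A t), ← map_mul, Units.mul_inv, map_one, one_mul]
  have he' : e = 0 ∨ e = 1 := by
    rcases IsLocalRing.isUnit_or_isUnit_one_sub_self e with h | h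
    · exact Or.inr (h.mul_left_cancel (he.trans (mul_one e).symm))
    · exact Or.inl (h.mul_right_cancel (show e * (1 - e) = 0 * (1 - e) by rw [mul_sub, mul_one, he, sub_self, zero_mul]))
  rcases he' with rfl | rfl
  · rw [mul_zero] at hbe
    exact absurd hbe h0
  · rw [mul_one, IsScalarTower.algebraMap_apply V B A] at hbe
    obtain ⟨⟨f, hf⟩, h⟩ := (IsLocalization.eq_iff_exists q.primeCompl A).1 hbe
    exact ⟨f, hf, Or.inr h⟩

/-- Complementary open and closed pieces of the generic fibre have closures meeting at no reduced point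
of the special fibre. -/
theorem notMem_closure_of_clopen (S : Set (PrimeSpectrum B))
    (G : Set (PrimeSpectrum B)) (hG : G = {p | p.asIdeal.comap (algebraMap V B) = ⊥})
    (hS : IsClopen ((Subtype.val : G → PrimeSpectrum B) ⁻¹' S)) (z : PrimeSpectrum B)
    (hz : z.asIdeal.comap (algebraMap V B) = maximalIdeal V)
    (hred : IsReduced (B ⧸ (maximalIdeal V).map (algebraMap V B))) :
    ¬ (z ∈ closure (S ∩ G) ∧ z ∈ closure (G \ S)) := by
  let M : Submonoid B := Algebra.algebraMapSubmonoid B V⁰
  let C := Localization M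
  let ι : PrimeSpectrum C → PrimeSpectrum B := PrimeSpectrum.comap (algebraMap B C)
  have hr : Set.range ι = G := by
    rw [show Set.range ι = {p | Disjoint (M : Set B) p.asIdeal} from PrimeSpectrum.localization_comap_range C M, hG]
    ext p
    constructor
    · intro h
      rw [Set.mem_setOf_eq, eq_bot_iff]
      intro x hx
      by_contra hx0
      exact Set.disjoint_left.1 h ⟨x, mem_nonZeroDivisors_of_ne_zero hx0, rfl⟩ hx
    · intro h
      refine Set.disjoint_left.2 ?_
      rintro _ ⟨x, hx, rfl⟩ hmem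
      have : x ∈ (⊥ : Ideal V) := h ▸ hmem
      exact nonZeroDivisors.ne_zero hx this
  have hS' : IsClopen (ι ⁻¹' S) := by
    have : ι ⁻¹' S = (fun y => (⟨ι y, hr ▸ ⟨y, rfl⟩⟩ : G)) ⁻¹' ((Subtype.val : G → PrimeSpectrum B) ⁻¹' S) := rfl
    rw [this]
    exact hS.preimage ((PrimeSpectrum.continuous_comap _).subtype_mk _)
  obtain ⟨e, he, heS⟩ := PrimeSpectrum.exists_idempotent_basicOpen_eq_of_isClopen hS'
  obtain ⟨⟨b, ⟨_, v, hv, rfl⟩⟩, hb⟩ := IsLocalization.surj M e
  have hbb : b * b = algebraMap V B v * b := by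
    refine H12Pic.PicCurve.ValUnits.injective_algebraMap V (C := C) ?_
    rw [map_mul, map_mul, ← hb]
    have he2 : e * e = e := he
    linear_combination (algebraMap B C (algebraMap V B v) * algebraMap B C (algebraMap V B v)) * he2
  have hiff : ∀ y, ι y ∈ S ↔ b ∉ (ι y).asIdeal := fun y => by
    rw [show ι y ∈ S ↔ y ∈ (PrimeSpectrum.basicOpen e : Set (PrimeSpectrum C)) from (Set.ext_iff.1 heS y).symm.symm]
    show e ∉ y.asIdeal ↔ algebraMap B C b ∉ y.asIdeal
    rw [← hb]
    exact not_congr (Ideal.mul_unit_mem_iff_mem _ (IsLocalization.map_units C (⟨algebraMap V B v, ⟨v, hv, rfl⟩⟩ : M))).symm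
  obtain ⟨f, hf, h⟩ := exists_zero_or_eq (nonZeroDivisors.ne_zero hv) hbb z.asIdeal hz hred
  rintro ⟨h₁, h₂⟩
  have hopen : IsOpen (PrimeSpectrum.basicOpen f : Set (PrimeSpectrum B)) := (PrimeSpectrum.basicOpen f).2
  rcases h with h | h
  · obtain ⟨p, hp, hpS, hpG⟩ := mem_closure_iff.1 h₁ _ hopen hf
    obtain ⟨y, rfl⟩ := hr.ge hpG
    exact (hiff y).1 hpS (((ι y).2.mem_or_mem (h ▸ Ideal.zero_mem _)).resolve_left hp)
  · obtain ⟨p, hp, hpG, hpS⟩ := mem_closure_iff.1 h₂ _ hopen hf
    obtain ⟨y, rfl⟩ := hr.ge hpG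
    have hbm : b ∈ (ι y).asIdeal := not_not.1 fun hn => hpS ((hiff y).2 hn)
    have : f * algebraMap V B v ∈ (ι y).asIdeal := h ▸ Ideal.mul_mem_left _ _ hbm
    have hv' : algebraMap V B v ∉ (ι y).asIdeal := fun hm =>
      Set.disjoint_left.1 (show Disjoint (M : Set B) (ι y).asIdeal from
        (PrimeSpectrum.localization_comap_range C M).le ⟨y, rfl⟩)
        (show algebraMap V B v ∈ (M : Set B) from ⟨v, hv, rfl⟩) hm
    exact hv' (((ι y).2.mem_or_mem this).resolve_left hp)

end Groth.Agent.H13Conn
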