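import Groth.Agent.H13Conn.Cover
import Groth.Agent.H13Conn.ValAlg
import Groth.Agent.H12AlgSp.SchImageApps
import Groth.Agent.H06Unibr.Henselize
import Groth.Agent.H06EGA14.Lifting
import Groth.Agent.H9Hens.ProperPairApps

/-!
Components of the fibres of a proper flat space over a valuation ring of an algebraically closed field.
-/

set_option autoImplicit false
set_option backward.isDefEq.respectTransparency false
set_option linter.style.haveILetI false
set_option maxHeartbeats 1600000

universe u

open CategoryTheory CategoryTheory.Limits AlgebraicGeometry Topology IsLocalRing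
open AlgSp Groth.Agent.H12AlgSp Groth.Agent.H13AlgSp Groth.Agent.H13Chow

namespace Groth.Agent.H13Conn

variable {S : Scheme.{u}}

theorem discreteTopology_connectedComponents (T : Type*) [TopologicalSpace T]
    [Finite (_root_.ConnectedComponents T)] : DiscreteTopology (_root_.ConnectedComponents T) := by
  infer_instance

theorem isClosedMap_map_of_proper {X Y : Sp S} (hY : IsAlgSpace Y) {f : X ⟶ Y} (hf : IsProperMor f) :
    IsClosedMap (Points.map f) :=
  hf.2.2 hY (𝟙 Y) (𝟙 X) f (IsPullback.of_horiz_isIso ⟨by simp⟩)

theorem range_map_field {B : Over S} {K : Type u} [Field K] {str : Spec (CommRingCat.of K) ⟶ S}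
    (a : Over.mk str ⟶ B) (x : Points ((yon S).obj (Over.mk str))) :
    Points.map ((yon S).map a) x = Points.ofScheme B (a.left (closedPoint K)) := by
  obtain ⟨t, rfl⟩ := (Points.schemeEquiv (Over.mk str)).surjective x
  refine (Points.map_yon_map_apply a t).trans ?_
  exact congrArg (fun v => Points.ofScheme B (a.left v)) (Subsingleton.elim (α := PrimeSpectrum K) t _)

variable {Ω : Type u} [Field Ω] (A : ValuationSubring Ω) (str : Spec (CommRingCat.of A) ⟶ S)

/-- The spectrum of the valuation ring over the base. -/
noncomputable abbrev base : Over S := Over.mk str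

/-- The closed point of the valuation ring over the base. -/
noncomputable abbrev special : Over.mk (Spec.map (CommRingCat.ofHom (residue A)) ≫ str) ⟶ base A str :=
  Over.homMk (Spec.map (CommRingCat.ofHom (residue A))) rfl

/-- The generic point of the valuation ring over the base. -/
noncomputable abbrev generic : Over.mk (Spec.map (CommRingCat.ofHom (algebraMap A Ω)) ≫ str) ⟶ base A str :=
  Over.homMk (Spec.map (CommRingCat.ofHom (algebraMap A Ω))) rfl

theorem special_apply : (special A str).left (closedPoint (ResidueField A)) =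
    (closedPoint A : Spec (CommRingCat.of A)) := by
  refine PrimeSpectrum.ext ?_
  show Ideal.comap (residue A) (closedPoint (ResidueField A)).asIdeal = maximalIdeal A
  rw [show (closedPoint (ResidueField A)).asIdeal = ⊥ from (Ideal.eq_bot_or_top _).resolve_right
    (closedPoint (ResidueField A)).isPrime.ne_top, ← RingHom.ker_eq_comap_bot, ker_residue]

theorem generic_apply : ((generic A str).left (closedPoint Ω)).asIdeal = ⊥ := by
  show Ideal.comap (algebraMap A Ω) (closedPoint Ω).asIdeal = ⊥
  rw [show (closedPoint Ω).asIdeal = ⊥ from (Ideal.eq_bot_or_top _).resolve_right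
    (closedPoint Ω).isPrime.ne_top, ← RingHom.ker_eq_comap_bot, ← RingHom.injective_iff_ker_eq_bot]
  exact IsFractionRing.injective A Ω

variable {A str} {X : Sp S} (hX : IsAlgSpace X) (g : X ⟶ (yon S).obj (base A str))

include hX in
/-- A closed set of points of a proper space over a valuation ring missing the special fibre is empty. -/
theorem eq_empty_of_closed (hp : IsProperMor g) {F : Set (Points X)} (hF : IsClosed F)
    (h : ∀ x ∈ F, x ∉ Set.range (Points.map (pullback.fst g ((yon S).map (special A str))))) : F = ∅ := by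
  by_contra hne
  obtain ⟨x, hx⟩ := Set.nonempty_iff_ne_empty.2 hne
  have hc := isClosedMap_map_of_proper (IsAlgSpace.yon_obj _) hp F hF
  obtain ⟨p, hp'⟩ := (Points.schemeEquiv (base A str)).surjective (Points.map g x)
  have hc' := hc.preimage (Points.schemeHomeo (base A str)).continuous
  obtain ⟨x', hx', hgx'⟩ := (IsLocalRing.specializes_closedPoint (R := A) p).mem_closed hc' ⟨x, hx, hp'.symm⟩
  refine h x' hx' ?_
  obtain ⟨s⟩ : Nonempty (Points ((yon S).obj (Over.mk (Spec.map (CommRingCat.ofHom (residue A)) ≫ str)))) :=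
    ⟨Points.ofScheme _ (closedPoint (ResidueField A))⟩
  obtain ⟨z, hz, -⟩ := exists_point_of_isPullback (IsPullback.of_hasPullback g ((yon S).map (special A str))) x' s (by
    rw [range_map_field, special_apply, hgx']
    rfl)
  exact ⟨z, hz⟩

include hX in
/-- Every point of a flat space over a valuation ring generizes to the generic fibre. -/
theorem exists_generization (hfl : LocP @Flat g) (x : Points X) :
    ∃ y, y ∈ Set.range (Points.map (pullback.fst g ((yon S).map (generic A str)))) ∧ y ⤳ x := by
  obtain ⟨W, p, hp, hps⟩ := hX.atlas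
  obtain ⟨f, hf⟩ := (yon S).map_surjective (p ≫ g)
  haveI : Flat f.left := locP_yon_map (hf ▸ Groth.Agent.H12AlgSp.locP_comp etLocal_flat
    (IsAlgSpace.yon_obj W) hX (IsAlgSpace.yon_obj _)
    (locP_of_repWith etLocal_flat (repWith_le (fun _ _ k (_ : Etale k) => inferInstanceAs (Flat k)) hp)) hfl)
  obtain ⟨w, rfl⟩ := surjective_ofPt_of_repWith le_rfl hps x
  obtain ⟨v, hv, hfv⟩ := Flat.generalizingMap f.left
    ((PrimeSpectrum.le_iff_specializes ((generic A str).left (closedPoint Ω) : PrimeSpectrum A) (f.left w)).1
      (show ((generic A str).left (closedPoint Ω)).asIdeal ≤ _ from (generic_apply A str).trans_le bot_le))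
  refine ⟨Points.ofPt p v, ?_, hv.map (Points.continuous_ofPt p)⟩
  obtain ⟨s⟩ : Nonempty (Points ((yon S).obj (Over.mk (Spec.map (CommRingCat.ofHom (algebraMap A Ω)) ≫ str)))) :=
    ⟨Points.ofScheme _ (closedPoint Ω)⟩
  obtain ⟨z, hz, -⟩ := exists_point_of_isPullback (IsPullback.of_hasPullback g ((yon S).map (generic A str)))
    (Points.ofPt p v) s (by
      rw [range_map_field, Points.map_ofPt, ← hf, ← hfv, ← Category.comp_id ((yon S).map f), ofPt_map,
        Points.ofPt_eq_map_ofScheme, Points.map_id])
  exact ⟨z, hz⟩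

include hX in
/-- The special fibre has at most as many components as the generic one. -/
theorem card_special_le [IsAlgClosed Ω] (hp : IsProperMor g) (hfl : LocP @Flat g)
    [Finite (_root_.ConnectedComponents (Points (pullback g ((yon S).map (special A str)))))] :
    ENat.card (_root_.ConnectedComponents (Points (pullback g ((yon S).map (special A str))))) ≤
      ENat.card (_root_.ConnectedComponents (Points (pullback g ((yon S).map (generic A str))))) := by
  classical
  haveI : HenselianLocalRing A := H06Unibr.henselianLocalRing_valuationSubring A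
  haveI : IsAffine (base A str).left := inferInstanceAs (IsAffine (Spec (CommRingCat.of A)))
  obtain ⟨T, m, k, hmk, hkp, hms, hmc⟩ := exists_scheme_cover_proper hX g hp
  haveI := hkp
  set πs := pullback.fst g ((yon S).map (special A str)) with hπs
  have hinj : Function.Injective (Points.map πs) := by
    haveI : Mono (special A str) := by
      haveI : IsClosedImmersion (Spec.map (CommRingCat.ofHom (residue A))) :=
        IsClosedImmersion.spec_of_surjective _ residue_surjective
      haveI : Mono ((Over.forget S).map (special A str)) :=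
        inferInstanceAs (Mono (Spec.map (CommRingCat.ofHom (residue A))))
      exact (Over.forget S).mono_of_mono_map this
    exact injective_map_of_mono _
  -- the special fibre of the cover
  let mkI := Spec.map (CommRingCat.ofHom (residue A))
  let T₀ : Over S := Over.mk (pullback.fst k.left mkI ≫ T.hom)
  let pT : T₀ ⟶ T := Over.homMk (pullback.fst k.left mkI) rfl
  let qT : T₀ ⟶ Over.mk (mkI ≫ str) := Over.homMk (pullback.snd k.left mkI) (by
    show pullback.snd k.left mkI ≫ mkI ≫ str = pullback.fst k.left mkI ≫ T.hom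
    rw [← pullback.condition_assoc]
    exact congrArg (_ ≫ ·) (Over.w k))
  have sqT : IsPullback pT qT k (special A str) :=
    IsPullback.of_map (Over.forget S) (Over.OverMorphism.ext pullback.condition) (IsPullback.of_hasPullback k.left mkI)
  have sqT' := sqT.map (yon S)
  rw [← hmk] at sqT'
  let m₀ : (yon S).obj T₀ ⟶ pullback g ((yon S).map (special A str)) :=
    pullback.lift ((yon S).map pT ≫ m) ((yon S).map qT) (by rw [Category.assoc]; exact sqT'.w)
  have sqm : IsPullback ((yon S).map pT) m₀ m πs :=
    IsPullback.of_bot (by rw [pullback.lift_snd]; exact sqT') (pullback.lift_fst _ _ _).symm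
      (IsPullback.of_hasPullback _ _)
  have hm₀ : ∀ v, Points.map πs (Points.ofPt m₀ v) = Points.ofPt m (pT.left v) := fun v => by
    rw [Points.map_ofPt, ← sqm.w, ofPt_map]
  let cc : Points (pullback g ((yon S).map (special A str))) → _ := ConnectedComponents.mk
  have hext : ∀ c, ∃ D : Set (Points X), IsClosed D ∧ IsClosed Dᶜ ∧ ∀ z, Points.map πs z ∈ D ↔ cc z = c := by
    intro c
    let O : (pullback k.left mkI).Opens := ⟨(fun v => cc (Points.ofPt m₀ v)) ⁻¹' {c},
      (isOpen_discrete _).preimage (ConnectedComponents.continuous_coe.comp (Points.continuous_ofPt m₀))⟩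
    have hOc : IsClosed (O : Set ↥(pullback k.left mkI)) :=
      (isClosed_discrete ({c} : Set _)).preimage (ConnectedComponents.continuous_coe.comp (Points.continuous_ofPt m₀))
    obtain ⟨U, ⟨hU, hUV⟩, -⟩ := Groth.Agent.H9Hens.ProperPairApps.uniqueLift_fibre (maximalIdeal A) k.left
      (O : Set ↥(pullback k.left mkI)) ⟨hOc, O.2⟩
    let W : T.left.Opens := ⟨U, hU.2⟩
    have hWc : IsClosed (W : Set T.left) := hU.1
    have hW : pullback.fst k.left mkI ⁻¹ᵁ W = O := TopologicalSpace.Opens.ext hUV
    let Z : Set (Points X) := Points.map m '' (Points.ofScheme T '' (W : Set T.left))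
    let Z' : Set (Points X) := Points.map m '' (Points.ofScheme T '' (W : Set T.left)ᶜ)
    have hclT : IsClosedMap (Points.ofScheme T) := (Points.schemeHomeo T).isClosedMap
    have hZ : IsClosed Z := hmc _ (hclT _ hWc)
    have hZ' : IsClosed Z' := hmc _ (hclT _ W.2.isClosed_compl)
    have hcov : ∀ x, x ∈ Z ∨ x ∈ Z' := fun x => by
      obtain ⟨v, rfl⟩ := hms x
      obtain ⟨v, rfl⟩ := (Points.schemeEquiv T).surjective v
      by_cases hv : v ∈ W
      · exact Or.inl ⟨_, ⟨v, hv, rfl⟩, rfl⟩
      · exact Or.inr ⟨_, ⟨v, hv, rfl⟩, rfl⟩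
    have hspec : ∀ (v : T.left) z, Points.map πs z = Points.map m (Points.ofScheme T v) → (v ∈ W ↔ cc z = c) := by
      intro v z e
      obtain ⟨w, hw₁, hw₂⟩ := exists_point_of_isPullback sqm (Points.ofScheme T v) z e.symm
      obtain ⟨w, rfl⟩ := (Points.schemeEquiv T₀).surjective w
      change Points.map _ (Points.ofScheme T₀ w) = _ at hw₁ hw₂
      have hwv : pT.left w = v := (Points.schemeEquiv T).injective ((Points.map_yon_map_apply pT w).symm.trans hw₁)
      rw [← Points.ofPt_eq_map_ofScheme] at hw₂
      rw [← hwv, ← hw₂]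
      exact Set.ext_iff.1 (congrArg SetLike.coe hW) w
    have hdisj : Z ∩ Z' = ∅ := eq_empty_of_closed hX g hp (hZ.inter hZ') (by
      rintro x ⟨⟨_, ⟨v, hv, rfl⟩, rfl⟩, ⟨_, ⟨v', hv', rfl⟩, hvv⟩⟩ ⟨z, hz⟩
      exact hv' ((hspec v' z (hz.trans hvv.symm)).2 ((hspec v z hz).1 hv)))
    refine ⟨Z, hZ, ?_, fun z => ?_⟩
    · rw [show Zᶜ = Z' from Set.ext fun x => ⟨fun hx => (hcov x).resolve_left hx,
        fun hx hx' => (Set.ext_iff.1 hdisj x).1 ⟨hx', hx⟩⟩]
      exact hZ'
    · constructor
      · rintro ⟨_, ⟨v, hv, rfl⟩, hvz⟩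
        exact (hspec v z hvz.symm).1 hv
      · intro hz
        obtain ⟨v, hv⟩ := hms (Points.map πs z)
        obtain ⟨v, rfl⟩ := (Points.schemeEquiv T).surjective v
        exact ⟨_, ⟨v, (hspec v z hv.symm).2 hz, rfl⟩, hv⟩
  choose D hD hD' hDc using hext
  have hdisj : ∀ c c', c ≠ c' → D c ∩ D c' = ∅ := fun c c' hne => eq_empty_of_closed hX g hp ((hD c).inter (hD c'))
    (by rintro x ⟨h, h'⟩ ⟨z, rfl⟩; exact hne (((hDc c z).1 h).symm.trans ((hDc c' z).1 h')))
  have hcov : ∀ x, ∃ c, x ∈ D c := fun x => by
    by_contra hx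
    push_neg at hx
    have : (⋂ c, (D c)ᶜ) = ∅ := eq_empty_of_closed hX g hp (isClosed_iInter hD')
      (by rintro y hy ⟨z, rfl⟩; exact Set.mem_iInter.1 hy (cc z) ((hDc _ z).2 rfl))
    exact (Set.ext_iff.1 this x).1 (Set.mem_iInter.2 hx)
  choose r hr using hcov
  have hru : ∀ x c, x ∈ D c → r x = c := fun x c h => by
    by_contra hne
    exact (Set.ext_iff.1 (hdisj _ _ hne) x).1 ⟨hr x, h⟩
  have hrc : Continuous r := continuous_def.2 fun O _ => by
    rw [show r ⁻¹' O = ⋃ c ∈ O, D c from Set.ext fun x => ⟨fun h => Set.mem_iUnion₂.2 ⟨_, h, hr x⟩,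
      fun h => by
        obtain ⟨c, hc, hxc⟩ := Set.mem_iUnion₂.1 h
        show r x ∈ O
        rw [hru x c hxc]; exact hc⟩]
    exact isOpen_biUnion fun c _ => by rw [← compl_compl (D c)]; exact (hD' c).isOpen_compl
  let Φ := r ∘ Points.map (pullback.fst g ((yon S).map (generic A str)))
  have hΦ : Continuous Φ := hrc.comp (Points.continuous_map _)
  have hΦs : Function.Surjective hΦ.connectedComponentsLift := fun c => by
    obtain ⟨z, rfl⟩ := ConnectedComponents.surjective_coe c
    obtain ⟨y, ⟨w, rfl⟩, hy⟩ := exists_generization hX g hfl (Points.map πs z)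
    refine ⟨ConnectedComponents.mk w, ?_⟩
    rw [Continuous.connectedComponentsLift_apply_coe]
    have h₁ := hy.mem_open ((hD' (cc z)).isOpen_compl) (by rw [compl_compl]; exact (hDc _ z).2 rfl)
    rw [compl_compl] at h₁
    exact hru _ _ h₁
  exact ENat.card_le_card_of_injective (Function.injective_surjInv hΦs)

include hX in
/-- With reduced special fibre, the generic fibre has at most as many components as the special one. -/
theorem card_generic_le (hp : IsProperMor g) (hfl : LocP @Flat g) (hlft : LocP @LocallyOfFiniteType g)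
    (hred : IsReducedSp (pullback g ((yon S).map (special A str))))
    [Finite (_root_.ConnectedComponents (Points (pullback g ((yon S).map (generic A str)))))] :
    ENat.card (_root_.ConnectedComponents (Points (pullback g ((yon S).map (generic A str))))) ≤
      ENat.card (_root_.ConnectedComponents (Points (pullback g ((yon S).map (special A str))))) := by
  classical
  have hB : IsAlgSpace ((yon S).obj (base A str)) := IsAlgSpace.yon_obj _
  haveI : IsAffine (base A str).left := inferInstanceAs (IsAffine (Spec (CommRingCat.of A)))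
  haveI : CompactSpace (Points X) := compactSpace_points_of_isQuasiCompactSp
    (Approx.isQuasiCompactSp_of_mor hp.2.1.2 hB (isQuasiCompactSp_yon_iff.2 inferInstance))
  obtain ⟨W₀, p₀, hW₀, hp₀, hps₀⟩ := exists_affine_atlas hX
  haveI := hW₀
  let B : CommRingCat := Γ(W₀.left, ⊤)
  let W : Over S := Over.mk (W₀.left.isoSpec.inv ≫ W₀.hom)
  let e : W ≅ W₀ := Over.isoMk W₀.left.isoSpec.symm rfl
  obtain ⟨p, hp', hps⟩ : ∃ p : (yon S).obj W ⟶ X, RepWith @Etale p ∧ RepWith @Surjective p :=
    ⟨(yon S).map e.hom ≫ p₀, MorphismProperty.RespectsIso.precomp _ _ _ hp₀,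
      MorphismProperty.RespectsIso.precomp _ _ _ hps₀⟩
  obtain ⟨f, hf⟩ := (yon S).map_surjective (p ≫ g)
  haveI hflat : Flat f.left := locP_yon_map (hf ▸ Groth.Agent.H12AlgSp.locP_comp etLocal_flat
    (IsAlgSpace.yon_obj W) hX hB
    (locP_of_repWith etLocal_flat (repWith_le (fun _ _ k (_ : Etale k) => inferInstanceAs (Flat k)) hp')) hfl)
  haveI hft : LocallyOfFiniteType f.left := locP_yon_map (hf ▸ Groth.Agent.H12AlgSp.locP_comp etLocal_lft
    (IsAlgSpace.yon_obj W) hX hB
    (locP_of_repWith etLocal_lft (repWith_le (fun _ _ k (_ : Etale k) => inferInstanceAs (LocallyOfFiniteType k)) hp')) hlft)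
  let φ : CommRingCat.of A ⟶ B := Spec.preimage f.left
  have hφ : Spec.map φ = f.left := Spec.map_preimage _
  letI := φ.hom.toAlgebra
  haveI : Module.Flat A B := (HasRingHomProperty.Spec_iff (P := @Flat) (φ := φ)).1 (hφ ▸ hflat)
  haveI : Algebra.FiniteType A B :=
    (HasRingHomProperty.Spec_iff (P := @LocallyOfFiniteType) (φ := φ)).1 (hφ ▸ hft)
  -- reducedness of the special fibre of the chart
  let mkI := Spec.map (CommRingCat.ofHom (residue A))
  let W₁ : Over S := Over.mk (pullback.fst f.left mkI ≫ W.hom)
  let pW : W₁ ⟶ W := Over.homMk (pullback.fst f.left mkI) rfl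
  let qW : W₁ ⟶ Over.mk (mkI ≫ str) := Over.homMk (pullback.snd f.left mkI) (by
    show pullback.snd f.left mkI ≫ mkI ≫ str = pullback.fst f.left mkI ≫ W.hom
    rw [← pullback.condition_assoc]
    exact congrArg (_ ≫ ·) (Over.w f))
  have sqW : IsPullback pW qW f (special A str) :=
    IsPullback.of_map (Over.forget S) (Over.OverMorphism.ext pullback.condition) (IsPullback.of_hasPullback f.left mkI)
  have sqW' := sqW.map (yon S)
  rw [hf] at sqW'
  let p₁ : (yon S).obj W₁ ⟶ pullback g ((yon S).map (special A str)) :=
    pullback.lift ((yon S).map pW ≫ p) ((yon S).map qW) (by rw [Category.assoc]; exact sqW'.w)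
  have sqp : IsPullback ((yon S).map pW) p₁ p (pullback.fst g ((yon S).map (special A str))) :=
    IsPullback.of_bot (by rw [pullback.lift_snd]; exact sqW') (pullback.lift_fst _ _ _).symm
      (IsPullback.of_hasPullback _ _)
  haveI : IsReduced (pullback f.left mkI) := isReduced_of_chart
    (isAlgSpace_pullback hB.diag hX (IsAlgSpace.yon_obj _) _ _) hred (repWith_of_isPullback sqp hp')
  have hredB : IsReduced (B ⧸ (maximalIdeal A).map (algebraMap A B)) := by
    haveI : IsReduced (pullback (Spec.map (CommRingCat.ofHom (algebraMap A B)))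
        (Spec.map (CommRingCat.ofHom (algebraMap A (ResidueField A))))) := by
      have e₁ : Spec.map (CommRingCat.ofHom (algebraMap A B)) = f.left := hφ
      rw [e₁]
      exact ‹IsReduced (pullback f.left mkI)›
    haveI : IsReduced (Spec (CommRingCat.of (TensorProduct A B (ResidueField A)))) :=
      isReduced_of_isOpenImmersion (pullbackSpecIso A B (ResidueField A)).inv
    haveI : _root_.IsReduced (TensorProduct A B (ResidueField A)) :=
      (affine_isReduced_iff (CommRingCat.of (TensorProduct A B (ResidueField A)))).1 inferInstance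
    let e := (Algebra.TensorProduct.quotIdealMapEquivTensorQuot (A := A) (↑B) (maximalIdeal A)).toRingEquiv
    haveI : _root_.IsReduced (TensorProduct A B (A ⧸ maximalIdeal A)) := ‹_root_.IsReduced (TensorProduct A B (ResidueField A))›
    exact isReduced_of_injective e.toRingHom e.injective
  -- the pieces
  set πη := pullback.fst g ((yon S).map (generic A str)) with hπη
  set πs := pullback.fst g ((yon S).map (special A str)) with hπs
  haveI : Mono (generic A str) := by
    haveI : IsPreimmersion (Spec.map (CommRingCat.ofHom (algebraMap A Ω))) :=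
      IsPreimmersion.of_isLocalization (R := A) (S := Ω) (nonZeroDivisors A)
    haveI : Mono ((Over.forget S).map (generic A str)) :=
      inferInstanceAs (Mono (Spec.map (CommRingCat.ofHom (algebraMap A Ω))))
    exact (Over.forget S).mono_of_mono_map this
  have hinj : Function.Injective (Points.map πη) := injective_map_of_mono _
  let cc : Points (pullback g ((yon S).map (generic A str))) → _ := ConnectedComponents.mk
  let D : _ → Set (Points X) := fun c => closure (Points.map πη '' (cc ⁻¹' {c}))
  let G : Set (PrimeSpectrum B) := {q | q.asIdeal.comap (algebraMap A B) = ⊥}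
  have hfq : ∀ q : W.left, (f.left q).asIdeal = (q : PrimeSpectrum B).asIdeal.comap (algebraMap A B) := fun q => by
    rw [← hφ]
    rfl
  -- the generic fibre of the chart
  let mkη := Spec.map (CommRingCat.ofHom (algebraMap A Ω))
  let W₂ : Over S := Over.mk (pullback.fst f.left mkη ≫ W.hom)
  let pW₂ : W₂ ⟶ W := Over.homMk (pullback.fst f.left mkη) rfl
  let qW₂ : W₂ ⟶ Over.mk (mkη ≫ str) := Over.homMk (pullback.snd f.left mkη) (by
    show pullback.snd f.left mkη ≫ mkη ≫ str = pullback.fst f.left mkη ≫ W.hom
    rw [← pullback.condition_assoc]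
    exact congrArg (_ ≫ ·) (Over.w f))
  have sqW₂ : IsPullback pW₂ qW₂ f (generic A str) :=
    IsPullback.of_map (Over.forget S) (Over.OverMorphism.ext pullback.condition) (IsPullback.of_hasPullback f.left mkη)
  have sqW₂' := sqW₂.map (yon S)
  rw [hf] at sqW₂'
  let p₂ : (yon S).obj W₂ ⟶ pullback g ((yon S).map (generic A str)) :=
    pullback.lift ((yon S).map pW₂ ≫ p) ((yon S).map qW₂) (by rw [Category.assoc]; exact sqW₂'.w)
  have hp₂ : ∀ v, Points.map πη (Points.ofPt p₂ v) = Points.ofPt p (pW₂.left v) := fun v => by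
    rw [Points.map_ofPt, show p₂ ≫ πη = (yon S).map pW₂ ≫ p from pullback.lift_fst _ _ _, ofPt_map]
  haveI : IsPreimmersion mkη := IsPreimmersion.of_isLocalization (R := A) (S := Ω) (nonZeroDivisors A)
  have hG : Set.range pW₂.left = G := by
    show Set.range (pullback.fst f.left mkη) = G
    rw [Scheme.Pullback.range_fst]
    ext q
    constructor
    · rintro ⟨o, ho⟩
      show (q : PrimeSpectrum B).asIdeal.comap (algebraMap A B) = ⊥
      rw [← hfq, ← ho, show o = closedPoint Ω from Subsingleton.elim (α := PrimeSpectrum Ω) _ _]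
      exact generic_apply A str
    · intro hq
      exact ⟨closedPoint Ω, PrimeSpectrum.ext ((generic_apply A str).trans ((hfq q).trans hq).symm)⟩
  have hkey : ∀ c c', c ≠ c' → ∀ z, Points.map πs z ∈ D c → Points.map πs z ∉ D c' := by
    intro c c' hne z h h'
    obtain ⟨v, hv⟩ := surjective_ofPt_of_repWith le_rfl (repWith_of_isPullback sqp hps) z
    have hwz : Points.ofPt p (pW.left v) = Points.map πs z := by
      rw [← hv, Points.map_ofPt, ← sqp.w, ofPt_map]
    have hopen := isOpenMap_ofPt_of_repWith etale_le_universallyOpen hp'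
    let E : _ → Set (PrimeSpectrum B) := fun d => (Points.ofPt p : W.left → Points X) ⁻¹' (Points.map πη '' (cc ⁻¹' {d}))
    have hcl : ∀ d, Points.map πs z ∈ D d → (pW.left v : PrimeSpectrum B) ∈ closure (E d) := fun d hd => by
      have := hopen.preimage_closure_subset_closure_preimage (show pW.left v ∈ Points.ofPt p ⁻¹' D d from by
        show Points.ofPt p (pW.left v) ∈ D d
        rw [hwz]; exact hd)
      exact this
    have hEG : ∀ d, E d ⊆ G := fun d q hq => by
      obtain ⟨y, -, hy⟩ := hq
      show (q : PrimeSpectrum B).asIdeal.comap (algebraMap A B) = ⊥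
      rw [← hfq]
      have h1 := congrArg (Points.map g) hy
      rw [← Points.map_comp, pullback.condition, Points.map_comp, range_map_field, Points.map_ofPt, ← hf,
        ← Category.comp_id ((yon S).map f), ofPt_map, Points.ofPt_eq_map_ofScheme, Points.map_id] at h1
      rw [← (Points.schemeEquiv (base A str)).injective h1]
      exact generic_apply A str
    have hS : IsClopen ((Subtype.val : G → PrimeSpectrum B) ⁻¹' E c) := by
      have hemb : IsEmbedding pW₂.left := (pullback.fst f.left mkη).isEmbedding
      let ψ : G → W₂.left := fun q => Classical.choose (hG.ge q.2)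
      have hψ : ∀ q : G, pW₂.left (ψ q) = q.1 := fun q => Classical.choose_spec (hG.ge q.2)
      have hψc : Continuous ψ := hemb.isInducing.continuous_iff.2 (by
        rw [show pW₂.left ∘ ψ = Subtype.val from funext hψ]
        exact continuous_subtype_val)
      have : ((Subtype.val : G → PrimeSpectrum B) ⁻¹' E c) = (cc ∘ Points.ofPt p₂ ∘ ψ) ⁻¹' {c} := by
        ext q
        constructor
        · rintro ⟨y, hy, hyq⟩
          show cc (Points.ofPt p₂ (ψ q)) = c
          rw [← hψ, ← hp₂] at hyq
          rw [← hinj hyq]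
          exact hy
        · intro hq
          exact ⟨_, hq, (hp₂ (ψ q)).trans (congrArg (Points.ofPt p) (hψ q))⟩
      rw [this]
      exact (isClopen_discrete _).preimage
        (ConnectedComponents.continuous_coe.comp ((Points.continuous_ofPt p₂).comp hψc))
    have hz' : ((pW.left v : PrimeSpectrum B)).asIdeal.comap (algebraMap A B) = maximalIdeal A := by
      rw [← hfq]
      have e₁ : f.left (pW.left v) = mkI (qW.left v) :=
        (Scheme.Hom.comp_apply _ _ _).symm.trans ((congrArg (fun k : W₁.left ⟶ Spec (CommRingCat.of A) => k v)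
          pullback.condition).trans (Scheme.Hom.comp_apply _ _ _))
      rw [e₁, show qW.left v = closedPoint (ResidueField A) from Subsingleton.elim (α := PrimeSpectrum (ResidueField A)) _ _]
      exact congrArg PrimeSpectrum.asIdeal (special_apply A str)
    refine notMem_closure_of_clopen (E c) G rfl hS (pW.left v) hz' hredB
      ⟨closure_mono (Set.subset_inter subset_rfl (hEG c)) (hcl c h), closure_mono ?_ (hcl c' h')⟩
    rintro q ⟨y, hy, hyq⟩
    refine ⟨hEG c' ⟨y, hy, hyq⟩, ?_⟩
    rintro ⟨y', hy', hyq'⟩
    rw [hinj (hyq'.trans hyq.symm)] at hy'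
    exact hne (hy'.symm.trans hy)
  have hcov : ∀ z, ∃ c, Points.map πs z ∈ D c := fun z => by
    obtain ⟨y, ⟨w, rfl⟩, hy⟩ := exists_generization hX g hfl (Points.map πs z)
    exact ⟨cc w, closure_mono (Set.singleton_subset_iff.2
      (show Points.map πη w ∈ Points.map πη '' (cc ⁻¹' {cc w}) from ⟨w, rfl, rfl⟩)) (specializes_iff_mem_closure.1 hy)⟩
  choose r hr using hcov
  have hru : ∀ z c, Points.map πs z ∈ D c → r z = c := fun z c h => by
    by_contra hne
    exact hkey _ _ hne z (hr z) h
  have hrc : Continuous r := continuous_iff_isClosed.2 fun O _ => by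
    rw [show r ⁻¹' O = ⋃ c ∈ O, Points.map πs ⁻¹' D c from Set.ext fun z => ⟨fun h => Set.mem_iUnion₂.2 ⟨_, h, hr z⟩,
      fun h => by
        obtain ⟨c, hc, hzc⟩ := Set.mem_iUnion₂.1 h
        show r z ∈ O
        rw [hru z c hzc]; exact hc⟩]
    exact (Set.toFinite O).isClosed_biUnion fun c _ => isClosed_closure.preimage (Points.continuous_map _)
  have hrs : Function.Surjective hrc.connectedComponentsLift := fun c => by
    obtain ⟨y, rfl⟩ := ConnectedComponents.surjective_coe c
    have hne : D (cc y) ≠ ∅ := Set.nonempty_iff_ne_empty.1 ⟨_, subset_closure ⟨y, rfl, rfl⟩⟩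
    by_contra hno
    refine hne (eq_empty_of_closed hX g hp isClosed_closure ?_)
    rintro x hx ⟨z, rfl⟩
    exact hno ⟨ConnectedComponents.mk z, by rw [Continuous.connectedComponentsLift_apply_coe]; exact hru z _ hx⟩
  exact ENat.card_le_card_of_injective (Function.injective_surjInv hrs)

end Groth.Agent.H13Conn
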