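import Groth.Agent.H13Conn.Fibre
import Groth.Agent.H13Conn.Valuation
import Groth.Agent.H06Conn.ProperCount
import Groth.Agent.H12AlgSp.ValuativeClosed
import Groth.Agent.S10670

/-!
Semicontinuity of the number of geometric connected components for proper flat spaces over an affine scheme.
-/

set_option autoImplicit false
set_option backward.isDefEq.respectTransparency false
set_option linter.style.haveILetI false
set_option maxHeartbeats 800000

universe u

open CategoryTheory CategoryTheory.Limits AlgebraicGeometry Topology IsLocalRing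
open AlgSp Groth.Agent.H12AlgSp Groth.Agent.H13AlgSp

namespace Groth.Agent.H13Conn

variable {S : Scheme.{u}}

theorem card_congr_iso {F G : Sp S} (e : F ≅ G) :
    ENat.card (_root_.ConnectedComponents (Points F)) = ENat.card (_root_.ConnectedComponents (Points G)) :=
  ENat.card_congr
    { toFun := (Points.continuous_map e.hom).connectedComponentsMap
      invFun := (Points.continuous_map e.inv).connectedComponentsMap
      left_inv := fun c => by
        obtain ⟨x, rfl⟩ := ConnectedComponents.surjective_coe c
        show ConnectedComponents.mk (Points.map e.inv (Points.map e.hom x)) = _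
        rw [← Points.map_comp, Iso.hom_inv_id, Points.map_id]
      right_inv := fun c => by
        obtain ⟨x, rfl⟩ := ConnectedComponents.surjective_coe c
        show ConnectedComponents.mk (Points.map e.hom (Points.map e.inv x)) = _
        rw [← Points.map_comp, Iso.inv_hom_id, Points.map_id] }

/-- All geometrically reduced fibres, stated on the valued points. -/
def HasReducedFibres {X Y : Sp S} (g : X ⟶ Y) : Prop :=
  ∀ (K : Type u) [Field K] (str : Spec (CommRingCat.of K) ⟶ S) (a : (yon S).obj (Over.mk str) ⟶ Y),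
    IsReducedSp (pullback g a)

variable {X : Sp S} {U₀ : Over S} [IsAffine U₀.left]

/-- The component count over a chart: constant on geometric points, constructible, monotone along
generizations. -/
theorem exists_count (hX : IsAlgSpace X) (g : X ⟶ (yon S).obj U₀) (hp : IsProperMor g) (hfl : LocP @Flat g)
    (hfp : IsFinitePresentationMor g) :
    ∃ N : U₀.left → ℕ∞,
      (∀ (K : Type u) [Field K] [IsAlgClosed K] (str : Spec (CommRingCat.of K) ⟶ S) (a : Over.mk str ⟶ U₀),
        ENat.card (_root_.ConnectedComponents (Points (pullback g ((yon S).map a)))) = N (a.left (closedPoint K))) ∧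
      (∀ t, N t < ⊤) ∧ (∀ n : ℕ, IsLocallyConstructible {t | N t = n}) ∧
      ∀ t' t, t' ⤳ t → N t ≤ N t' ∧ (HasReducedFibres g → N t = N t') := by
  obtain ⟨K₀, k, hK₀, hk, hcard⟩ := exists_scheme_card_eq hX g hp.1 hfp
  haveI := hK₀
  haveI := hk
  haveI : QuasiCompact k := inferInstance
  haveI : QuasiSeparated k := inferInstance
  have hN : ∀ (K : Type u) [Field K] [IsAlgClosed K] (str : Spec (CommRingCat.of K) ⟶ S) (a : Over.mk str ⟶ U₀),
      ENat.card (_root_.ConnectedComponents (Points (pullback g ((yon S).map a)))) =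
        MoreMor.nGeomConnComp k (a.left (closedPoint K)) := fun K _ _ str a =>
    (hcard (Over.mk str) a).symm.trans (H7Flat.GeomInt.nGeom_eq k a.left rfl).2
  refine ⟨MoreMor.nGeomConnComp k, hN, fun t => H06Conn.nGeomConnComp_lt_top k t, fun n => S1339.result k _,
    fun t' t hs => ?_⟩
  let Ω := AlgebraicClosure (U₀.left.residueField t')
  let ξ : Spec (CommRingCat.of Ω) ⟶ U₀.left :=
    Spec.map (CommRingCat.ofHom (algebraMap (U₀.left.residueField t') Ω)) ≫ U₀.left.fromSpecResidueField t'
  have hξ : ξ (closedPoint Ω) = t' := by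
    show (Spec.map _ ≫ U₀.left.fromSpecResidueField t') _ = t'
    rw [Scheme.Hom.comp_apply, Scheme.fromSpecResidueField_apply]
  let σ : U₀.left.presheaf.stalk t ⟶ CommRingCat.of Ω :=
    U₀.left.presheaf.stalkSpecializes hs ≫ U₀.left.residue t' ≫
      CommRingCat.ofHom (algebraMap (U₀.left.residueField t') Ω)
  obtain ⟨A, hA, hA'⟩ := exists_factor_valuationRing σ.hom
  haveI : IsAlgClosed (ResidueField A) := H06EGA14.isAlgClosed_residueField A
  let b : Spec (CommRingCat.of A) ⟶ U₀.left :=
    Spec.map (CommRingCat.ofHom (σ.hom.codRestrict _ hA) : U₀.left.presheaf.stalk t ⟶ .of A) ≫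
      U₀.left.fromSpecStalk t
  have hb : b (closedPoint A) = t := by
    show (Spec.map _ ≫ U₀.left.fromSpecStalk t) _ = t
    rw [Scheme.Hom.comp_apply]
    have : Spec.map (CommRingCat.ofHom (σ.hom.codRestrict _ hA) : U₀.left.presheaf.stalk t ⟶ .of A)
        (closedPoint A) = closedPoint (U₀.left.presheaf.stalk t) :=
      comap_closedPoint (S := A) (σ.hom.codRestrict A.toSubring hA)
    exact (congrArg _ this).trans U₀.left.fromSpecStalk_closedPoint
  have hbξ : Spec.map (CommRingCat.ofHom (algebraMap A Ω)) ≫ b = ξ := by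
    show _ = Spec.map _ ≫ U₀.left.fromSpecResidueField t'
    rw [Scheme.fromSpecResidueField, ← Scheme.SpecMap_stalkSpecializes_fromSpecStalk hs]
    simp_rw [b, ← Spec.map_comp_assoc]
    rfl
  let str := b ≫ U₀.hom
  let bo : base A str ⟶ U₀ := Over.homMk b
  have hB : IsAlgSpace ((yon S).obj (base A str)) := IsAlgSpace.yon_obj _
  have hU : IsAlgSpace ((yon S).obj U₀) := IsAlgSpace.yon_obj _
  let g' := pullback.snd g ((yon S).map bo)
  have sq := IsPullback.of_hasPullback g ((yon S).map bo)
  have hXA : IsAlgSpace (pullback g ((yon S).map bo)) := isAlgSpace_pullback hU.diag hX hB _ _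
  have hp' : IsProperMor g' := isProperMor_of_isPullback hX hU hB sq hp
  have hfl' : LocP @Flat g' := Groth.Agent.H12AlgSp.locP_of_isPullback etLocal_flat sq hX hU hB hfl
  have hlft' : LocP @LocallyOfFiniteType g' := hp'.2.1.1
  let es : pullback g' ((yon S).map (special A str)) ≅ pullback g ((yon S).map (special A str ≫ bo)) :=
    pullbackLeftPullbackSndIso g ((yon S).map bo) _ ≪≫ pullback.congrHom rfl (Functor.map_comp _ _ _).symm
  let eη : pullback g' ((yon S).map (generic A str)) ≅ pullback g ((yon S).map (generic A str ≫ bo)) :=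
    pullbackLeftPullbackSndIso g ((yon S).map bo) _ ≪≫ pullback.congrHom rfl (Functor.map_comp _ _ _).symm
  have hs' : ENat.card (_root_.ConnectedComponents (Points (pullback g' ((yon S).map (special A str))))) =
      MoreMor.nGeomConnComp k t := by
    rw [card_congr_iso es, hN (ResidueField A) _ (special A str ≫ bo)]
    congr 1
    show (Spec.map (CommRingCat.ofHom (residue A)) ≫ b) (closedPoint (ResidueField A)) = t
    rw [Scheme.Hom.comp_apply]
    exact (congrArg b (special_apply A str)).trans hb
  have hη' : ENat.card (_root_.ConnectedComponents (Points (pullback g' ((yon S).map (generic A str))))) =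
      MoreMor.nGeomConnComp k t' := by
    rw [card_congr_iso eη, hN Ω _ (generic A str ≫ bo)]
    congr 1
    show (Spec.map (CommRingCat.ofHom (algebraMap A Ω)) ≫ b) (closedPoint Ω) = t'
    rw [hbξ, hξ]
  haveI : Finite (_root_.ConnectedComponents (Points (pullback g' ((yon S).map (special A str))))) :=
    ENat.card_lt_top.1 (hs'.trans_lt (H06Conn.nGeomConnComp_lt_top k t))
  haveI : Finite (_root_.ConnectedComponents (Points (pullback g' ((yon S).map (generic A str))))) :=
    ENat.card_lt_top.1 (hη'.trans_lt (H06Conn.nGeomConnComp_lt_top k t'))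
  have hle := card_special_le hXA g' hp' hfl'
  rw [hs', hη'] at hle
  refine ⟨hle, fun hred => le_antisymm hle ?_⟩
  have hge := card_generic_le hXA g' hp' hfl' hlft' (by
    obtain ⟨V, q, hq, hqs, hV⟩ := hred (ResidueField A) _ ((yon S).map (special A str ≫ bo))
    exact ⟨V, q ≫ es.inv, repWith_comp hq (repWith_of_isIso es.inv), repWith_comp hqs (repWith_of_isIso es.inv), hV⟩)
  rwa [hs', hη'] at hge

/-- Constructible sets stable under generization in an affine scheme are open. -/
theorem isOpen_of_constructible {U : Scheme.{u}} [IsAffine U] {s : Set U} (hs : StableUnderGeneralization s)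
    (hc : IsLocallyConstructible s) : IsOpen s := by
  have hc' : IsConstructible (U.isoSpec.inv ⁻¹' s) :=
    hc.isConstructible.preimage_of_isOpenEmbedding U.isoSpec.inv.homeomorph.isOpenEmbedding
  have ho := PrimeSpectrum.isOpen_of_stableUnderGeneralization_of_isConstructible
    (fun a b h ha => hs (h.map U.isoSpec.inv.continuous) ha) hc'
  exact U.isoSpec.inv.homeomorph.isOpen_preimage.1 ho

/-- Lower semicontinuity of the component count over a chart. -/
theorem exists_count_isOpen (hX : IsAlgSpace X) (g : X ⟶ (yon S).obj U₀) (hp : IsProperMor g) (hfl : LocP @Flat g)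
    (hfp : IsFinitePresentationMor g) :
    ∃ N : U₀.left → ℕ∞,
      (∀ (K : Type u) [Field K] [IsAlgClosed K] (str : Spec (CommRingCat.of K) ⟶ S) (a : Over.mk str ⟶ U₀),
        ENat.card (_root_.ConnectedComponents (Points (pullback g ((yon S).map a)))) = N (a.left (closedPoint K))) ∧
      (∀ d, IsOpen {t | d < N t}) ∧ (HasReducedFibres g → ∀ d, IsOpen {t | N t = d}) := by
  obtain ⟨N, hN, hfin, hcons, hspec⟩ := exists_count hX g hp hfl hfp
  refine ⟨N, hN, fun d => ?_, fun hred d => ?_⟩
  · cases d with
    | top => simp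
    | coe d =>
      refine isOpen_of_constructible (fun a b h ha => lt_of_lt_of_le ha (hspec b a h).1) ?_
      have e : {t | (d : ℕ∞) < N t} = (⋃ n ∈ Set.Iic d, {t | N t = (n : ℕ∞)})ᶜ := by
        ext t
        simp only [Set.mem_setOf_eq, Set.mem_compl_iff, Set.mem_iUnion, Set.mem_Iic, not_exists]
        constructor
        · intro h n hn e
          rw [e] at h
          exact absurd (ENat.coe_lt_coe.1 h) (not_lt.2 hn)
        · intro h
          obtain ⟨n, hn⟩ := WithTop.ne_top_iff_exists.1 (hfin t).ne
          rw [← hn]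
          by_contra hle
          exact h n (ENat.coe_le_coe.1 (not_lt.1 hle)) hn.symm
      rw [e]
      exact (IsLocallyConstructible.biUnion (Set.finite_Iic d) fun n _ => hcons n).isConstructible.compl.isLocallyConstructible
  · cases d with
    | top => simp [fun t => (hfin t).ne]
    | coe d =>
      refine isOpen_of_constructible (fun a b h ha => ?_) (hcons d)
      show N b = d
      rw [← (hspec b a h).2 hred]
      exact ha

/-- On the target, the geometric count is computed on charts. -/
theorem isOpen_of_charts {X Y : AlgSp.Space S} (f : X ⟶ Y) (hf1 : IsProperMor f.hom) (hf2 : LocP @Flat f.hom)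
    (hf3 : IsFinitePresentationMor f.hom) (P : ℕ∞ → Prop)
    (hP : ∀ (U : Over S) (p : (yon S).obj U ⟶ Y.obj), IsAffine U.left →
      ∀ N : U.left → ℕ∞,
        (∀ d, IsOpen {t | d < N t}) → (HasReducedFibres (pullback.snd f.hom p) → ∀ d, IsOpen {t | N t = d}) →
          IsOpen {t | P (N t)}) :
    IsOpen {y : Points Y.obj | ∀ (k : FieldPt Y.obj), Points.mk k = y → k.IsGeometric →
        ∀ (Xk : Sp S) (a : Xk ⟶ X.obj) (b : Xk ⟶ (yon S).obj k.pt), IsPullback a b f.hom k.toHom →
          P (ENat.card (_root_.ConnectedComponents (Points Xk)))} := by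
  obtain ⟨ι, T, p, hT, hp, -, hcov⟩ := exists_affine_family_over Y.property
  refine isOpen_iff_forall_mem_open.2 fun y hy => ?_
  obtain ⟨i, u, rfl⟩ := hcov y
  haveI := hT i
  let X' : AlgSp.Space S := ⟨pullback f.hom (p i),
    isAlgSpace_pullback Y.property.diag X.property (IsAlgSpace.yon_obj _) _ _⟩
  let U' : AlgSp.Space S := ⟨(yon S).obj (T i), IsAlgSpace.yon_obj _⟩
  let g : X' ⟶ U' := ObjectProperty.homMk (pullback.snd f.hom (p i))
  let p' : U' ⟶ Y := ObjectProperty.homMk (p i)
  let fst' : X' ⟶ X := ObjectProperty.homMk (pullback.fst f.hom (p i))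
  have sq := IsPullback.of_hasPullback f.hom (p i)
  have hU' : IsAlgSpace ((yon S).obj (T i)) := IsAlgSpace.yon_obj _
  obtain ⟨N, hN, ho₁, ho₂⟩ := exists_count_isOpen X'.property (pullback.snd f.hom (p i))
    (isProperMor_of_isPullback X.property Y.property hU' sq hf1)
    (Groth.Agent.H12AlgSp.locP_of_isPullback etLocal_flat sq X.property Y.property hU' hf2)
    ⟨Groth.Agent.H12AlgSp.locP_of_isPullback etLocal_lfp sq X.property Y.property hU' hf3.1,
      isQuasiCompactMor_of_isPullback sq hf3.2.1, isQuasiSeparatedMor_of_isSeparatedMor (isSeparatedMor_of_isPullback sq hf1.1)⟩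
  have hopen := hP (T i) (p i) (hT i) N ho₁ ho₂
  -- a geometric point over a point of the chart
  have hgeom : ∀ t : (T i).left, ∃ k' : FieldPt U'.obj, k'.IsGeometric ∧
      Points.map (p i) (Points.mk k') = Points.ofPt (p i) t ∧
      ENat.card (_root_.ConnectedComponents (Points (pullback g.hom k'.toHom))) = N t := by
    intro t
    let Ω := AlgebraicClosure ((T i).left.residueField t)
    let ξ : Spec (CommRingCat.of Ω) ⟶ (T i).left :=
      Spec.map (CommRingCat.ofHom (algebraMap ((T i).left.residueField t) Ω)) ≫ (T i).left.fromSpecResidueField t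
    let a : Over.mk (ξ ≫ (T i).hom) ⟶ T i := Over.homMk ξ rfl
    have ht : a.left (closedPoint Ω) = t := by
      show (Spec.map _ ≫ (T i).left.fromSpecResidueField t) _ = t
      rw [Scheme.Hom.comp_apply, Scheme.fromSpecResidueField_apply]
    refine ⟨fieldPtOfHom ((yon S).map a), (inferInstance : IsAlgClosed Ω), ?_, ?_⟩
    · rw [← Points.ofPt_toHom (fieldPtOfHom ((yon S).map a)) (closedPoint Ω), Points.map_ofPt]
      show Points.ofPt ((fieldPtOfHom ((yon S).map a)).toHom ≫ p i) _ = _
      rw [toHom_fieldPtOfHom, ofPt_map]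
      exact congrArg (Points.ofPt (p i)) ht
    · show ENat.card (_root_.ConnectedComponents (Points (pullback (pullback.snd f.hom (p i))
        (fieldPtOfHom ((yon S).map a)).toHom))) = _
      rw [toHom_fieldPtOfHom]
      exact (hN Ω _ a).trans (congrArg N ht)
  refine ⟨Points.ofPt (p i) '' {t | P (N t)}, ?_,
    isOpenMap_ofPt_of_repWith etale_le_universallyOpen (hp i) _ hopen, ⟨u, ?_, rfl⟩⟩
  · rintro _ ⟨t, ht, rfl⟩ k hk hkg Xk a b sqk
    obtain ⟨k', hk'g, hk'p, hk'N⟩ := hgeom t
    rw [← S10670.result f p' fst' g sq k' hk'g k hkg (hk.trans hk'p.symm) _ _ _ (IsPullback.of_hasPullback _ _)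
      Xk a b sqk, hk'N]
    exact ht
  · obtain ⟨k', hk'g, hk'p, hk'N⟩ := hgeom u
    let kY : FieldPt Y.obj := fieldPtOfHom (k'.toHom ≫ p i)
    have hkY : Points.mk kY = Points.ofPt (p i) u := by
      rw [← hk'p, ← Points.ofPt_toHom kY (closedPoint k'.K), ← Points.ofPt_toHom k' (closedPoint k'.K),
        Points.map_ofPt]
      show Points.ofPt kY.toHom _ = _
      rw [toHom_fieldPtOfHom]
    have h := hy kY hkY hk'g _ _ _ (IsPullback.of_hasPullback f.hom kY.toHom)
    rw [← S10670.result f p' fst' g sq k' hk'g kY hk'g (hkY.trans hk'p.symm) _ _ _ (IsPullback.of_hasPullback _ _)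
      _ _ _ (IsPullback.of_hasPullback f.hom kY.toHom), hk'N] at h
    exact h

end Groth.Agent.H13Conn
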