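import Mathlib

/-!
Comparing connected components of two quotients of glued spaces.
-/

set_option autoImplicit false

universe u v

open Topology

namespace Groth.Agent.H13Conn

/-- Two spaces have equally many connected components when they are linked through a common cover. -/
theorem card_connectedComponents_eq {T K W : Type u} {X : Type v} [TopologicalSpace T] [TopologicalSpace K]
    [TopologicalSpace X] [TopologicalSpace W] (κ : T → K) (hκ : IsQuotientMap κ)
    (g : T → ConnectedComponents X) (hg : Continuous g) (hgκ : ∀ a b, κ a = κ b → g a = g b)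
    (q : W → X) (hq : IsQuotientMap q) (σ : W → T) (hσ : Continuous σ)
    (hgσ : ∀ w, g (σ w) = ConnectedComponents.mk (q w))
    (hcompat : ∀ w w', q w = q w' → ConnectedComponents.mk (κ (σ w)) = ConnectedComponents.mk (κ (σ w')))
    (hsurj : ∀ a, ∃ w, ConnectedComponents.mk (κ a) = ConnectedComponents.mk (κ (σ w))) :
    ENat.card (ConnectedComponents K) = ENat.card (ConnectedComponents X) := by
  let Φ : K → ConnectedComponents X := fun k => g (Function.surjInv hκ.surjective k)
  have hΦκ : ∀ a, Φ (κ a) = g a := fun a => hgκ _ _ (Function.surjInv_eq hκ.surjective _)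
  have hΦ : Continuous Φ := hκ.continuous_iff.2 (by
    rw [show Φ ∘ κ = g from funext hΦκ]
    exact hg)
  let Ψ : X → ConnectedComponents K := fun x => ConnectedComponents.mk (κ (σ (Function.surjInv hq.surjective x)))
  have hΨq : ∀ w, Ψ (q w) = ConnectedComponents.mk (κ (σ w)) := fun w =>
    hcompat _ _ (Function.surjInv_eq hq.surjective _)
  have hΨ : Continuous Ψ := hq.continuous_iff.2 (by
    rw [show Ψ ∘ q = fun w => ConnectedComponents.mk (κ (σ w)) from funext hΨq]
    exact ConnectedComponents.continuous_coe.comp (hκ.continuous.comp hσ))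
  refine ENat.card_congr ⟨hΦ.connectedComponentsLift, hΨ.connectedComponentsLift, fun c => ?_, fun d => ?_⟩
  · obtain ⟨k, rfl⟩ := ConnectedComponents.surjective_coe c
    obtain ⟨a, rfl⟩ := hκ.surjective k
    obtain ⟨w, hw⟩ := hsurj a
    rw [hw, Continuous.connectedComponentsLift_apply_coe, hΦκ, hgσ, Continuous.connectedComponentsLift_apply_coe,
      hΨq]
  · obtain ⟨x, rfl⟩ := ConnectedComponents.surjective_coe d
    obtain ⟨w, rfl⟩ := hq.surjective x
    rw [Continuous.connectedComponentsLift_apply_coe, hΨq, Continuous.connectedComponentsLift_apply_coe, hΦκ, hgσ]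

end Groth.Agent.H13Conn
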